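import Mathlib
import Cfsg.Agent.S0035

set_option autoImplicit false

namespace Cfsg.Agent.Helper2

open Cfsg
open scoped Pointwise

section FrobGroup

variable {G : Type*} [Group G]

theorem frobC_mem_conj_smul (H : Subgroup G) (g x : G) :
    x ∈ MulAut.conj g • H ↔ g⁻¹ * x * g ∈ H := Cfsg.Agent.S0034.mem_conj_smul H g x

theorem frobC_mem {H : Subgroup G} (hH : IsFrobeniusComplement H) {h x : G}
    (hh : h ∈ H) (h1 : h ≠ 1) (hx : x⁻¹ * h * x ∈ H) : x ∈ H :=
  Cfsg.Agent.S0035.frob_mem hH hh h1 hx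

/-- the centralizer of a nonidentity element of a Frobenius complement lies in the complement -/
theorem frobC_centralizer {H : Subgroup G} (hH : IsFrobeniusComplement H) {h c : G}
    (hh : h ∈ H) (h1 : h ≠ 1) (hc : c * h = h * c) : c ∈ H := by
  apply frobC_mem hH hh h1
  have : c⁻¹ * h * c = h := by rw [mul_assoc, ← hc, inv_mul_cancel_left]
  rw [this]; exact hh

/-- a conjugate of a Frobenius complement is a Frobenius complement -/
theorem frobC_conj {H : Subgroup G} (hH : IsFrobeniusComplement H) (g : G) :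
    IsFrobeniusComplement (MulAut.conj g • H) := by
  have hH' := hH
  obtain ⟨hbot, htop, hF⟩ := hH
  refine ⟨?_, ?_, ?_⟩
  · intro h
    apply hbot
    rw [eq_bot_iff]
    intro x hx
    have h1 : g * x * g⁻¹ ∈ MulAut.conj g • H := by
      rw [frobC_mem_conj_smul]
      have : g⁻¹ * (g * x * g⁻¹) * g = x := by group
      rw [this]; exact hx
    rw [h, Subgroup.mem_bot] at h1
    rw [Subgroup.mem_bot]
    have h2 : x = g⁻¹ * (g * x * g⁻¹) * g := by group
    rw [h2, h1]; group
  · intro h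
    apply htop
    rw [eq_top_iff]
    intro x _
    have h1 : g * x * g⁻¹ ∈ MulAut.conj g • H := by rw [h]; trivial
    rw [frobC_mem_conj_smul] at h1
    have : g⁻¹ * (g * x * g⁻¹) * g = x := by group
    rw [this] at h1; exact h1
  · intro a ha
    rw [eq_bot_iff]
    intro x hx
    rw [Subgroup.mem_bot]
    obtain ⟨hx1, hx2⟩ := Subgroup.mem_inf.1 hx
    rw [frobC_mem_conj_smul] at hx1 hx2
    rw [frobC_mem_conj_smul] at hx2
    by_contra hxne
    apply ha
    rw [frobC_mem_conj_smul]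
    apply frobC_mem hH' hx1
    · intro e
      apply hxne
      have h2 : x = g * (g⁻¹ * x * g) * g⁻¹ := by group
      rw [h2, e]; group
    · have : (g⁻¹ * a * g)⁻¹ * (g⁻¹ * x * g) * (g⁻¹ * a * g) = g⁻¹ * (a⁻¹ * x * a) * g := by group
      rw [this]; exact hx2

/-- two conjugates of a Frobenius complement sharing a nonidentity element are equal -/
theorem frobC_conj_eq {H : Subgroup G} (hH : IsFrobeniusComplement H) {x u v : G} (hx1 : x ≠ 1)
    (hu : x ∈ MulAut.conj u • H) (hv : x ∈ MulAut.conj v • H) :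
    MulAut.conj u • H = MulAut.conj v • H := by
  rw [frobC_mem_conj_smul] at hu hv
  have hy : v⁻¹ * u ∈ H := by
    apply frobC_mem hH hv
    · intro e
      apply hx1
      have h2 : x = v * (v⁻¹ * x * v) * v⁻¹ := by group
      rw [h2, e]; group
    · have : (v⁻¹ * u)⁻¹ * (v⁻¹ * x * v) * (v⁻¹ * u) = u⁻¹ * x * u := by group
      rw [this]; exact hu
  ext z
  rw [frobC_mem_conj_smul, frobC_mem_conj_smul]
  have e : v⁻¹ * z * v = (v⁻¹ * u) * (u⁻¹ * z * u) * (v⁻¹ * u)⁻¹ := by group
  rw [e]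
  constructor
  · intro hz
    exact H.mul_mem (H.mul_mem hy hz) (H.inv_mem hy)
  · intro hz
    have := H.mul_mem (H.mul_mem (H.inv_mem hy) hz) hy
    convert this using 1
    group

/-- a Frobenius complement induces a Frobenius complement on any subgroup it meets nontrivially
and does not contain -/
theorem frobC_subgroupOf {H : Subgroup G} (hH : IsFrobeniusComplement H) (K : Subgroup G)
    (hK : ¬ K ≤ H) (hne : ∃ k ∈ K, k ∈ H ∧ k ≠ 1) : IsFrobeniusComplement (H.subgroupOf K) := by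
  obtain ⟨k, hkK, hkH, hk1⟩ := hne
  refine ⟨?_, ?_, ?_⟩
  · intro h
    have : (⟨k, hkK⟩ : K) ∈ H.subgroupOf K := by rw [Subgroup.mem_subgroupOf]; exact hkH
    rw [h, Subgroup.mem_bot] at this
    exact hk1 (congrArg Subtype.val this)
  · intro h
    exact hK (Subgroup.subgroupOf_eq_top.mp h)
  · intro a ha
    rw [eq_bot_iff]
    intro x hx
    obtain ⟨hx1, hx2⟩ := Subgroup.mem_inf.1 hx
    rw [frobC_mem_conj_smul] at hx2
    rw [Subgroup.mem_subgroupOf] at hx1 hx2 ha
    rw [Subgroup.mem_bot]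
    by_contra hxne
    apply ha
    apply frobC_mem hH hx1 (fun e => hxne (Subtype.ext e))
    simpa using hx2

/-- the Frobenius kernel meets the complement trivially -/
theorem frobKer_disjoint {H : Subgroup G} (N : Subgroup G)
    (hNset : (N : Set G) = frobeniusKernel H) {n : G} (hn : n ∈ N) (hnH : n ∈ H) : n = 1 := by
  have h0 : n ∈ frobeniusKernel H := by rw [← hNset]; exact hn
  rcases h0 with h | h
  · exact h
  · exact absurd ((frobC_mem_conj_smul H 1 n).mpr (by simpa using hnH)) (h 1)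

theorem not_mem_frobeniusKernel {H : Subgroup G} {x : G} (hx : x ∉ frobeniusKernel H) :
    x ≠ 1 ∧ ∃ g : G, x ∈ MulAut.conj g • H := by
  constructor
  · intro h; exact hx (Or.inl h)
  · by_contra hc
    push Not at hc
    exact hx (Or.inr hc)

/-- a normal subgroup of a Frobenius group is contained in the kernel or contains it -/
theorem frob_normal_le_or_le [Finite G] {H : Subgroup G} (hH : IsFrobeniusComplement H)
    (N : Subgroup G) (hNn : N.Normal) (hNset : (N : Set G) = frobeniusKernel H)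
    (M : Subgroup G) (hM : M.Normal) : M ≤ N ∨ N ≤ M := by
  by_cases hMN : M ≤ N
  · exact Or.inl hMN
  right
  obtain ⟨x, hxM, hxN⟩ := SetLike.not_le_iff_exists.mp hMN
  have hxK : x ∉ frobeniusKernel H := by rw [← hNset]; exact hxN
  obtain ⟨hx1, g, hg⟩ := not_mem_frobeniusKernel hxK
  rw [frobC_mem_conj_smul] at hg
  obtain ⟨h, hh⟩ : ∃ h, h = g⁻¹ * x * g := ⟨_, rfl⟩
  have hhH : h ∈ H := hh ▸ hg
  have hhM : h ∈ M := by
    rw [hh]
    have := hM.conj_mem x hxM g⁻¹
    simpa using this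
  have hh1 : h ≠ 1 := by
    intro e
    apply hx1
    have h2 : x = g * h * g⁻¹ := by rw [hh]; group
    rw [h2, e]; group
  have hmem : ∀ n : N, (n : G) * h * (n : G)⁻¹ * h⁻¹ ∈ M ⊓ N := by
    intro n
    refine ⟨M.mul_mem (hM.conj_mem h hhM n) (M.inv_mem hhM), ?_⟩
    have e : (n : G) * h * (n : G)⁻¹ * h⁻¹ = n * (h * (n : G)⁻¹ * h⁻¹) := by group
    rw [e]
    exact N.mul_mem n.2 (hNn.conj_mem _ (N.inv_mem n.2) h)
  have hcard : Nat.card N ≤ Nat.card (M ⊓ N : Subgroup G) := by
    apply Nat.card_le_card_of_injective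
      (fun n : N => (⟨(n : G) * h * (n : G)⁻¹ * h⁻¹, hmem n⟩ : (M ⊓ N : Subgroup G)))
    intro n m hnm
    have e : (n : G) * h * (n : G)⁻¹ * h⁻¹ = m * h * (m : G)⁻¹ * h⁻¹ := congrArg Subtype.val hnm
    have e3 : (n : G) * h * (n : G)⁻¹ = m * h * (m : G)⁻¹ := mul_right_cancel e
    have e2 : ((m : G)⁻¹ * n) * h = h * ((m : G)⁻¹ * n) := by
      calc (m : G)⁻¹ * n * h = (m : G)⁻¹ * (n * h * (n : G)⁻¹) * n := by group
        _ = (m : G)⁻¹ * (m * h * (m : G)⁻¹) * n := by rw [e3]
        _ = h * ((m : G)⁻¹ * n) := by group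
    have e4 := frobC_centralizer hH hhH hh1 e2
    have e5 := frobKer_disjoint N hNset (N.mul_mem (N.inv_mem m.2) n.2) e4
    apply Subtype.ext
    exact (inv_mul_eq_one.mp e5).symm
  have h3 := Subgroup.eq_of_le_of_card_ge (inf_le_right : M ⊓ N ≤ N) hcard
  exact inf_eq_right.mp h3

/-- a subgroup all of whose nonidentity elements lie in conjugates of a Frobenius complement `H`
lies in a single conjugate of `H` -/
theorem frob_le_conj [Finite G] {H : Subgroup G} (hH : IsFrobeniusComplement H) (K : Subgroup G)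
    (hK : ∀ k ∈ K, k ≠ 1 → ∃ g : G, k ∈ MulAut.conj g • H) : ∃ g : G, K ≤ MulAut.conj g • H := by
  by_contra hcon
  push Not at hcon
  have hKbot : K ≠ ⊥ := by
    rintro rfl
    exact hcon 1 bot_le
  obtain ⟨k₁, hk₁1⟩ := Subgroup.ne_bot_iff_exists_ne_one.mp hKbot
  obtain ⟨g₁, hg₁⟩ := hK k₁ k₁.2 (fun e => hk₁1 (Subtype.ext e))
  have key : ∀ (g : G) (k : K), (k : G) ∈ MulAut.conj g • H → k ≠ 1 →
      IsFrobeniusComplement ((MulAut.conj g • H).subgroupOf K) ∧
      2 * ((MulAut.conj g • H).subgroupOf K).index ≤ Nat.card K ∧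
      2 ≤ ((MulAut.conj g • H).subgroupOf K).index := by
    intro g k hk hk1
    have hF := frobC_subgroupOf (frobC_conj hH g) K (hcon g)
      ⟨k, k.2, hk, fun e => hk1 (Subtype.ext e)⟩
    refine ⟨hF, ?_, ?_⟩
    · have h1 := Subgroup.card_mul_index ((MulAut.conj g • H).subgroupOf K)
      have hpos : 0 < Nat.card ((MulAut.conj g • H).subgroupOf K) := Nat.card_pos
      have hne1 : Nat.card ((MulAut.conj g • H).subgroupOf K) ≠ 1 :=
        fun e => hF.1 (Subgroup.card_eq_one.mp e)
      have h2 : 2 ≤ Nat.card ((MulAut.conj g • H).subgroupOf K) := by omega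
      nlinarith
    · have h1 : ((MulAut.conj g • H).subgroupOf K).index ≠ 1 :=
        fun e => hF.2.1 (Subgroup.index_eq_one.mp e)
      have h0 : ((MulAut.conj g • H).subgroupOf K).index ≠ 0 := Subgroup.index_ne_zero_of_finite
      omega
  obtain ⟨hF₁, hi₁, hi₁'⟩ := key g₁ k₁ hg₁ hk₁1
  have hc₁ := Cfsg.Agent.S0034.card_kernel _ hF₁
  obtain ⟨k₂, hk₂Z, hk₂1⟩ :
      ∃ k ∈ frobeniusKernel ((MulAut.conj g₁ • H).subgroupOf K), k ≠ 1 := by
    by_contra hno
    push Not at hno
    have hsub : frobeniusKernel ((MulAut.conj g₁ • H).subgroupOf K) = {1} :=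
      Set.eq_singleton_iff_unique_mem.mpr ⟨Or.inl rfl, hno⟩
    rw [hsub] at hc₁
    simp at hc₁
    omega
  obtain ⟨g₂, hg₂⟩ := hK k₂ k₂.2 (fun e => hk₂1 (Subtype.ext e))
  obtain ⟨hF₂, hi₂, -⟩ := key g₂ k₂ hg₂ hk₂1
  have hc₂ := Cfsg.Agent.S0034.card_kernel _ hF₂
  have hcover : frobeniusKernel ((MulAut.conj g₁ • H).subgroupOf K) ∪
      frobeniusKernel ((MulAut.conj g₂ • H).subgroupOf K) = Set.univ := by
    rw [Set.eq_univ_iff_forall]
    intro x
    by_contra hx
    rw [Set.mem_union, not_or] at hx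
    obtain ⟨hx1, hx2⟩ := hx
    obtain ⟨hxne, a, ha⟩ := not_mem_frobeniusKernel hx1
    obtain ⟨-, b, hb⟩ := not_mem_frobeniusKernel hx2
    rw [frobC_mem_conj_smul, Subgroup.mem_subgroupOf, frobC_mem_conj_smul] at ha hb
    have ha' : (x : G) ∈ MulAut.conj ((a : G) * g₁) • H := by
      rw [frobC_mem_conj_smul]
      convert ha using 1
      simp only [Subgroup.coe_mul, Subgroup.coe_inv]
      group
    have hb' : (x : G) ∈ MulAut.conj ((b : G) * g₂) • H := by
      rw [frobC_mem_conj_smul]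
      convert hb using 1
      simp only [Subgroup.coe_mul, Subgroup.coe_inv]
      group
    have heq := frobC_conj_eq hH (fun e => hxne (Subtype.ext e)) ha' hb'
    rcases hk₂Z with h | h
    · exact hk₂1 h
    · apply h (b⁻¹ * a)
      rw [frobC_mem_conj_smul, Subgroup.mem_subgroupOf, frobC_mem_conj_smul]
      have h3 : (b : G) * k₂ * (b : G)⁻¹ ∈ MulAut.conj ((b : G) * g₂) • H := by
        rw [frobC_mem_conj_smul]
        rw [frobC_mem_conj_smul] at hg₂
        convert hg₂ using 1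
        group
      rw [← heq, frobC_mem_conj_smul] at h3
      convert h3 using 1
      simp only [Subgroup.coe_mul, Subgroup.coe_inv]
      group
  have hu := Set.ncard_union_add_ncard_inter
    (frobeniusKernel ((MulAut.conj g₁ • H).subgroupOf K))
    (frobeniusKernel ((MulAut.conj g₂ • H).subgroupOf K))
  rw [hcover, Set.ncard_univ] at hu
  have hint : 1 ≤ (frobeniusKernel ((MulAut.conj g₁ • H).subgroupOf K) ∩
      frobeniusKernel ((MulAut.conj g₂ • H).subgroupOf K)).ncard := by
    rw [Nat.succ_le_iff, Set.ncard_pos]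
    exact ⟨1, Or.inl rfl, Or.inl rfl⟩
  rw [Nat.card_coe_set_eq] at hc₁ hc₂
  omega

end FrobGroup

end Cfsg.Agent.Helper2
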