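import Mathlib
import Cfsg.Agent.Helper2.FrobGroup

set_option autoImplicit false

namespace Cfsg.Agent.Helper2

open Cfsg
open scoped Pointwise

section FrobGroup2

/-- A Frobenius group `T` cannot act on a nontrivial abelian group of coprime order with every
nonidentity element acting fixed-point-freely. -/
theorem frob_fpf_trivial {T : Type*} [Group T] [Finite T] {S : Subgroup T}
    (hS : IsFrobeniusComplement S) {V : Type*} [CommGroup V] [Finite V]
    (φ : T →* MulAut V) (hfpf : ∀ t : T, t ≠ 1 → ∀ v : V, φ t v = v → v = 1)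
    (hcop : Nat.Coprime (Nat.card V) (Nat.card T)) (v : V) : v = 1 := by
  classical
  obtain ⟨M, hMset, hMn, hMc⟩ := Cfsg.Agent.S0035.result S hS
  haveI : Fintype M := Fintype.ofFinite M
  haveI : Fintype S := Fintype.ofFinite S
  have hsub : ∀ (A : Subgroup T) [Fintype A], A ≠ ⊥ → ∀ w : V, ∏ a : A, φ (a : T) w = 1 := by
    intro A _ hA w
    obtain ⟨b, hb⟩ := Subgroup.ne_bot_iff_exists_ne_one.mp hA
    apply hfpf (b : T) (fun e => hb (Subtype.ext e))
    rw [map_prod]
    apply Fintype.prod_equiv (Equiv.mulLeft b)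
    intro a
    simp [map_mul]
  have hMbot : M ≠ ⊥ := by
    intro h
    have c := hMc.card_mul_card
    rw [h] at c
    simp only [Subgroup.card_bot, one_mul] at c
    exact hS.2.1 (Subgroup.eq_top_of_card_eq S c)
  have hI : ∏ s : S, ∏ m : M, φ ((m : T) * (s : T)) v = 1 := by
    rw [Finset.prod_comm]
    apply Finset.prod_eq_one
    intro m _
    have e : ∏ s : S, φ ((m : T) * (s : T)) v = φ (m : T) (∏ s : S, φ (s : T) v) := by
      rw [map_prod]
      apply Finset.prod_congr rfl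
      intro s _
      simp [map_mul]
    rw [e, hsub S hS.1 v, map_one]
  have hG1 : ∏ m : M, φ ((m : T) * ((1 : S) : T)) v = 1 := by
    simp only [OneMemClass.coe_one, mul_one]
    exact hsub M hMbot v
  have hGs : ∀ s : S, s ≠ 1 → ∏ m : M, φ ((m : T) * (s : T)) v =
      ∏ m : M, φ (m : T) (φ (s : T) (φ ((m : T)⁻¹) v)) := by
    intro s hs
    have hs1 : (s : T) ≠ 1 := fun e => hs (Subtype.ext e)
    have hmem : ∀ m : M, (m : T) * s * (m : T)⁻¹ * (s : T)⁻¹ ∈ M := by
      intro m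
      have e : (m : T) * s * (m : T)⁻¹ * (s : T)⁻¹ = m * (s * (m : T)⁻¹ * (s : T)⁻¹) := by group
      rw [e]
      exact M.mul_mem m.2 (hMn.conj_mem _ (M.inv_mem m.2) s)
    obtain ⟨β, hβ⟩ : ∃ β : M → M, ∀ m, ((β m : M) : T) = (m : T) * s * (m : T)⁻¹ * (s : T)⁻¹ :=
      ⟨fun m => ⟨_, hmem m⟩, fun m => rfl⟩
    have hinj : Function.Injective β := by
      intro n m hnm
      have e : (n : T) * s * (n : T)⁻¹ * (s : T)⁻¹ = m * s * (m : T)⁻¹ * (s : T)⁻¹ := by
        rw [← hβ, ← hβ, hnm]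
      have e3 : (n : T) * s * (n : T)⁻¹ = m * s * (m : T)⁻¹ := mul_right_cancel e
      have e2 : ((m : T)⁻¹ * n) * s = s * ((m : T)⁻¹ * n) := by
        calc (m : T)⁻¹ * n * s = (m : T)⁻¹ * (n * s * (n : T)⁻¹) * n := by group
          _ = (m : T)⁻¹ * (m * s * (m : T)⁻¹) * n := by rw [e3]
          _ = s * ((m : T)⁻¹ * n) := by group
      have e4 := frobC_centralizer hS s.2 hs1 e2
      have e5 := frobKer_disjoint M hMset (M.mul_mem (M.inv_mem m.2) n.2) e4
      apply Subtype.ext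
      exact (inv_mul_eq_one.mp e5).symm
    have hbij : Function.Bijective β := Finite.injective_iff_bijective.mp hinj
    rw [← hbij.prod_comp (fun m : M => φ ((m : T) * (s : T)) v)]
    apply Finset.prod_congr rfl
    intro m _
    rw [hβ]
    have e : (m : T) * s * (m : T)⁻¹ * (s : T)⁻¹ * s = m * s * (m : T)⁻¹ := by group
    rw [e]
    simp [map_mul]
  have hII : ∏ s : S, ∏ m : M, φ (m : T) (φ (s : T) (φ ((m : T)⁻¹) v)) = 1 := by
    rw [Finset.prod_comm]
    apply Finset.prod_eq_one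
    intro m _
    rw [← map_prod, hsub S hS.1 _, map_one]
  have hG'1 : ∏ m : M, φ (m : T) (φ ((1 : S) : T) (φ ((m : T)⁻¹) v)) = v ^ Nat.card M := by
    have h0 : ∀ m : M, φ (m : T) (φ ((1 : S) : T) (φ ((m : T)⁻¹) v)) = v := by
      intro m
      simp
    simp only [h0, Finset.prod_const, Finset.card_univ, Nat.card_eq_fintype_card]
  have h1 := Finset.mul_prod_erase Finset.univ
    (fun s : S => ∏ m : M, φ ((m : T) * (s : T)) v) (Finset.mem_univ 1)
  have h2 := Finset.mul_prod_erase Finset.univ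
    (fun s : S => ∏ m : M, φ (m : T) (φ (s : T) (φ ((m : T)⁻¹) v))) (Finset.mem_univ 1)
  have h3 : ∏ s ∈ Finset.univ.erase (1 : S), ∏ m : M, φ ((m : T) * (s : T)) v =
      ∏ s ∈ Finset.univ.erase (1 : S), ∏ m : M, φ (m : T) (φ (s : T) (φ ((m : T)⁻¹) v)) := by
    apply Finset.prod_congr rfl
    intro s hs
    exact hGs s (Finset.ne_of_mem_erase hs)
  beta_reduce at h1 h2
  rw [hI, hG1, one_mul] at h1
  rw [hII, hG'1, ← h3, h1, mul_one] at h2
  have hd1 : orderOf v ∣ Nat.card M := orderOf_dvd_of_pow_eq_one h2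
  have hd2 : orderOf v ∣ Nat.card T := hd1.trans (Subgroup.card_subgroup_dvd_card M)
  have hd3 : orderOf v ∣ Nat.card V := orderOf_dvd_natCard v
  have hd4 : orderOf v ∣ 1 := by
    have := Nat.dvd_gcd hd3 hd2
    rwa [Nat.Coprime.gcd_eq_one hcop] at this
  exact orderOf_eq_one_iff.mp (Nat.dvd_one.mp hd4)

variable {G : Type*} [Group G]

/-- the kernel and the complement of a Frobenius group have coprime orders -/
theorem frob_coprime [Finite G] {H : Subgroup G} (hH : IsFrobeniusComplement H)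
    (N : Subgroup G) (hNc : Subgroup.IsComplement' N H) :
    Nat.Coprime (Nat.card N) (Nat.card H) := by
  have h1 := Cfsg.Agent.S0034.index_mod H hH
  rw [hNc.index_eq_card] at h1
  have h2 : Nat.gcd (Nat.card N) (Nat.card H) = Nat.gcd 1 (Nat.card H) := Nat.ModEq.gcd_eq h1
  rw [Nat.gcd_one_left] at h2
  exact h2

/-- In a Frobenius group, some conjugate of the complement normalizes a nontrivial abelian
subgroup of the kernel. -/
theorem frob_exists_invariant_abelian [Finite G] {H : Subgroup G} (hH : IsFrobeniusComplement H)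
    (N : Subgroup G) (hNset : (N : Set G) = frobeniusKernel H) (hNn : N.Normal)
    (hNc : Subgroup.IsComplement' N H) :
    ∃ (g : G) (V : Subgroup G), V ≤ N ∧ V ≠ ⊥ ∧ (∀ x ∈ V, ∀ y ∈ V, x * y = y * x) ∧
      ∀ h ∈ H, ∀ v ∈ V, (g * h * g⁻¹) * v * (g * h * g⁻¹)⁻¹ ∈ V := by
  classical
  haveI := hNn
  have hcop := frob_coprime hH N hNc
  have hNcard : Nat.card N ≠ 1 := by
    rw [← hNc.index_eq_card]
    exact fun e => hH.2.1 (Subgroup.index_eq_one.mp e)
  obtain ⟨r, hr⟩ : ∃ r, r = Nat.minFac (Nat.card N) := ⟨_, rfl⟩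
  have hrp : r.Prime := hr ▸ Nat.minFac_prime hNcard
  have hrd : r ∣ Nat.card N := hr ▸ Nat.minFac_dvd _
  haveI : Fact r.Prime := ⟨hrp⟩
  obtain ⟨R⟩ : Nonempty (Sylow r N) := inferInstance
  have hfr := Sylow.normalizer_sup_eq_top R
  obtain ⟨R₀, hR₀⟩ : ∃ R₀ : Subgroup G, R₀ = (R : Subgroup N).map N.subtype := ⟨_, rfl⟩
  obtain ⟨L, hL⟩ : ∃ L : Subgroup G, L = Subgroup.normalizer (R₀ : Set G) := ⟨_, rfl⟩
  have hLN : L ⊔ N = ⊤ := by rw [hL, hR₀]; exact hfr
  -- Schur–Zassenhaus in `L`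
  have hidx : (N.subgroupOf L).index = Nat.card H := by
    have h1 : (N.subgroupOf L).index = N.relIndex L := rfl
    rw [h1, ← Subgroup.relIndex_sup_right, hLN, Subgroup.relIndex_top_right]
    exact hNc.symm.index_eq_card
  have hcardN' : Nat.card (N.subgroupOf L) ∣ Nat.card N := by
    have h1 : Nat.card ((N.subgroupOf L).map L.subtype) = Nat.card (N.subgroupOf L) :=
      Subgroup.card_map_of_injective L.subtype_injective
    rw [← h1, Subgroup.subgroupOf_map_subtype]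
    exact Subgroup.card_dvd_of_le inf_le_left
  have hcop' : Nat.Coprime (Nat.card (N.subgroupOf L)) (N.subgroupOf L).index := by
    rw [hidx]
    exact Nat.Coprime.coprime_dvd_left hcardN' hcop
  obtain ⟨H₁', hH₁'⟩ := Subgroup.exists_right_complement'_of_coprime hcop'
  obtain ⟨H₁, hH₁⟩ : ∃ H₁ : Subgroup G, H₁ = H₁'.map L.subtype := ⟨_, rfl⟩
  have hH₁card : Nat.card H₁ = Nat.card H := by
    rw [hH₁, Subgroup.card_map_of_injective L.subtype_injective, ← hidx]
    exact hH₁'.symm.index_eq_card.symm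
  have hH₁L : H₁ ≤ L := by rw [hH₁]; exact Subgroup.map_subtype_le _
  have hH₁N : ∀ k ∈ H₁, k ∈ N → k = 1 := by
    intro k hk hkN
    rw [hH₁] at hk
    obtain ⟨y, hy, rfl⟩ := Subgroup.mem_map.mp hk
    have hyN : y ∈ N.subgroupOf L := by rw [Subgroup.mem_subgroupOf]; exact hkN
    have := Subgroup.disjoint_def.mp hH₁'.disjoint hyN hy
    rw [this]
    rfl
  have hK : ∀ k ∈ H₁, k ≠ 1 → ∃ g : G, k ∈ MulAut.conj g • H := by
    intro k hk hk1
    by_contra hc
    push Not at hc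
    have hkN : k ∈ N := by
      have h0 : k ∈ frobeniusKernel H := Or.inr hc
      rw [← hNset] at h0
      exact h0
    exact hk1 (hH₁N k hk hkN)
  obtain ⟨g, hg⟩ := frob_le_conj hH H₁ hK
  have hcg : Nat.card (MulAut.conj g • H : Subgroup G) = Nat.card H :=
    (Nat.card_congr (Subgroup.equivSMul (MulAut.conj g) H).toEquiv).symm
  have hHg : H₁ = MulAut.conj g • H :=
    Subgroup.eq_of_le_of_card_ge hg (by rw [hcg, hH₁card])
  -- the centre of the Sylow subgroup
  refine ⟨g, R₀ ⊓ Subgroup.centralizer (R₀ : Set G), ?_, ?_, ?_, ?_⟩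
  · rw [hR₀]
    exact inf_le_left.trans (Subgroup.map_subtype_le _)
  · have hRne : (R : Subgroup N) ≠ ⊥ := R.ne_bot_of_dvd_card hrd
    haveI : Nontrivial (R : Subgroup N) := (Subgroup.nontrivial_iff_ne_bot _).mpr hRne
    haveI : Nontrivial (Subgroup.center (R : Subgroup N)) := R.isPGroup'.center_nontrivial
    obtain ⟨z, hz⟩ := exists_ne (1 : Subgroup.center (R : Subgroup N))
    intro hbot
    have hzmem : (((z : (R : Subgroup N)) : N) : G) ∈
        R₀ ⊓ Subgroup.centralizer (R₀ : Set G) := by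
      refine Subgroup.mem_inf.mpr ⟨?_, ?_⟩
      · rw [hR₀]
        exact Subgroup.mem_map_of_mem _ (z : (R : Subgroup N)).2
      · rw [Subgroup.mem_centralizer_iff]
        intro y hy
        rw [hR₀] at hy
        obtain ⟨y', hy', rfl⟩ := Subgroup.mem_map.mp hy
        have hc := Subgroup.mem_center_iff.mp z.2 ⟨y', hy'⟩
        have hc2 := congrArg (fun t : (R : Subgroup N) => ((t : N) : G)) hc
        simpa using hc2
    rw [hbot, Subgroup.mem_bot] at hzmem
    apply hz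
    apply Subtype.ext
    apply Subtype.ext
    apply Subtype.ext
    exact hzmem
  · intro x hx y hy
    have := Subgroup.mem_centralizer_iff.mp (Subgroup.mem_inf.mp hy).2 x (Subgroup.mem_inf.mp hx).1
    exact this
  · intro h hh v hv
    have hc : g * h * g⁻¹ ∈ L := by
      apply hH₁L
      rw [hHg, frobC_mem_conj_smul]
      have e : g⁻¹ * (g * h * g⁻¹) * g = h := by group
      rw [e]; exact hh
    rw [hL] at hc
    have hc' := Subgroup.mem_normalizer_iff.mp hc
    have hci : (g * h * g⁻¹)⁻¹ ∈ Subgroup.normalizer (R₀ : Set G) := Subgroup.inv_mem _ hc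
    have hci' := Subgroup.mem_normalizer_iff.mp hci
    obtain ⟨hv1, hv2⟩ := Subgroup.mem_inf.mp hv
    refine Subgroup.mem_inf.mpr ⟨(hc' v).mp hv1, ?_⟩
    rw [Subgroup.mem_centralizer_iff]
    intro y hy
    have hy' : (g * h * g⁻¹)⁻¹ * y * (g * h * g⁻¹)⁻¹⁻¹ ∈ R₀ := (hci' y).mp hy
    have hcomm := Subgroup.mem_centralizer_iff.mp hv2 _ hy'
    calc y * (g * h * g⁻¹ * v * (g * h * g⁻¹)⁻¹)
        = (g * h * g⁻¹) * (((g * h * g⁻¹)⁻¹ * y * (g * h * g⁻¹)⁻¹⁻¹) * v) * (g * h * g⁻¹)⁻¹ := by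
          group
      _ = (g * h * g⁻¹) * (v * ((g * h * g⁻¹)⁻¹ * y * (g * h * g⁻¹)⁻¹⁻¹)) * (g * h * g⁻¹)⁻¹ := by
          rw [hcomm]
      _ = g * h * g⁻¹ * v * (g * h * g⁻¹)⁻¹ * y := by group

/-- conjugation action of (a conjugate of) `H` on a subgroup `V` it normalizes -/
def frobConjAct (g : G) (H V : Subgroup G)
    (hinv : ∀ h ∈ H, ∀ v ∈ V, (g * h * g⁻¹) * v * (g * h * g⁻¹)⁻¹ ∈ V) : H →* MulAut V where
  toFun h :=
    { toFun := fun v => ⟨(g * (h : G) * g⁻¹) * v * (g * (h : G) * g⁻¹)⁻¹, hinv h h.2 v v.2⟩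
      invFun := fun v => ⟨(g * (h : G)⁻¹ * g⁻¹) * v * (g * (h : G)⁻¹ * g⁻¹)⁻¹,
        hinv _ (H.inv_mem h.2) v v.2⟩
      left_inv := fun v => by
        apply Subtype.ext
        show (g * (h : G)⁻¹ * g⁻¹) * ((g * (h : G) * g⁻¹) * v * (g * (h : G) * g⁻¹)⁻¹) *
          (g * (h : G)⁻¹ * g⁻¹)⁻¹ = v
        group
      right_inv := fun v => by
        apply Subtype.ext
        show (g * (h : G) * g⁻¹) * ((g * (h : G)⁻¹ * g⁻¹) * v * (g * (h : G)⁻¹ * g⁻¹)⁻¹) *
          (g * (h : G) * g⁻¹)⁻¹ = v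
        group
      map_mul' := fun a b => by
        apply Subtype.ext
        show (g * (h : G) * g⁻¹) * ((a : G) * b) * (g * (h : G) * g⁻¹)⁻¹ =
          ((g * (h : G) * g⁻¹) * a * (g * (h : G) * g⁻¹)⁻¹) *
          ((g * (h : G) * g⁻¹) * b * (g * (h : G) * g⁻¹)⁻¹)
        group }
  map_one' := by
    ext v
    show (g * ((1 : H) : G) * g⁻¹) * v * (g * ((1 : H) : G) * g⁻¹)⁻¹ = v
    simp
  map_mul' := fun a b => by
    ext v
    show (g * ((a * b : H) : G) * g⁻¹) * v * (g * ((a * b : H) : G) * g⁻¹)⁻¹ =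
      (g * (a : G) * g⁻¹) * ((g * (b : G) * g⁻¹) * v * (g * (b : G) * g⁻¹)⁻¹) *
        (g * (a : G) * g⁻¹)⁻¹
    rw [Subgroup.coe_mul]
    group

theorem frobConjAct_apply (g : G) (H V : Subgroup G)
    (hinv : ∀ h ∈ H, ∀ v ∈ V, (g * h * g⁻¹) * v * (g * h * g⁻¹)⁻¹ ∈ V) (h : H) (v : V) :
    ((frobConjAct g H V hinv h v : V) : G) = (g * (h : G) * g⁻¹) * v * (g * (h : G) * g⁻¹)⁻¹ :=
  rfl

/-- A Frobenius complement does not properly contain another Frobenius complement of the same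
group. -/
theorem frob_no_proper_sub [Finite G] {H H₁ : Subgroup G} (hH : IsFrobeniusComplement H)
    (hH₁ : IsFrobeniusComplement H₁) (hle : H₁ ≤ H) : H₁ = H := by
  by_contra hne
  have hnle : ¬ H ≤ H₁ := fun h => hne (le_antisymm hle h)
  obtain ⟨k, hk⟩ := Subgroup.ne_bot_iff_exists_ne_one.mp hH₁.1
  have hS : IsFrobeniusComplement (H₁.subgroupOf H) :=
    frobC_subgroupOf hH₁ H hnle ⟨k, hle k.2, k.2, fun e => hk (Subtype.ext e)⟩
  obtain ⟨N, hNset, hNn, hNc⟩ := Cfsg.Agent.S0035.result H hH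
  obtain ⟨g, V, hVN, hVbot, hVc, hVinv⟩ := frob_exists_invariant_abelian hH N hNset hNn hNc
  letI : CommGroup V :=
    { (inferInstance : Group V) with mul_comm := fun a b => Subtype.ext (hVc a a.2 b b.2) }
  have hfpf : ∀ t : H, t ≠ 1 → ∀ v : V, frobConjAct g H V hVinv t v = v → v = 1 := by
    intro t ht v hv
    have hv' := congrArg Subtype.val hv
    rw [frobConjAct_apply] at hv'
    have hc : (g⁻¹ * (v : G) * g) * (t : G) = (t : G) * (g⁻¹ * (v : G) * g) := by
      calc (g⁻¹ * (v : G) * g) * (t : G)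
          = g⁻¹ * ((v : G) * (g * (t : G) * g⁻¹)) * g := by group
        _ = g⁻¹ * ((g * (t : G) * g⁻¹) * (v : G) * (g * (t : G) * g⁻¹)⁻¹ * (g * (t : G) * g⁻¹))
            * g := by rw [hv']
        _ = (t : G) * (g⁻¹ * (v : G) * g) := by group
    have h1 := frobC_centralizer hH t.2 (fun e => ht (Subtype.ext e)) hc
    have h2 : g⁻¹ * (v : G) * g ∈ N := by
      have := hNn.conj_mem (v : G) (hVN v.2) g⁻¹
      simpa using this
    have h3 := frobKer_disjoint N hNset h2 h1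
    apply Subtype.ext
    have h4 : (v : G) = g * (g⁻¹ * (v : G) * g) * g⁻¹ := by group
    rw [h4, h3]
    simp
  have hcop : Nat.Coprime (Nat.card V) (Nat.card H) :=
    Nat.Coprime.coprime_dvd_left (Subgroup.card_dvd_of_le hVN) (frob_coprime hH N hNc)
  apply hVbot
  rw [eq_bot_iff]
  intro x hx
  have := frob_fpf_trivial hS (frobConjAct g H V hVinv) hfpf hcop ⟨x, hx⟩
  rw [Subgroup.mem_bot]
  exact congrArg Subtype.val this

end FrobGroup2

end Cfsg.Agent.Helper2
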