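import Mathlib

set_option autoImplicit false

namespace Cfsg.Agent.Helper2

open scoped Pointwise

section Frob

variable {G : Type*} [Group G]

theorem frob_exists_mul (K H : Subgroup G) [hKn : K.Normal] (hKH' : K ⊔ H = ⊤) (g : G) :
    ∃ k ∈ K, ∃ h ∈ H, g = k * h := by
  have hgmem : g ∈ (K : Set G) * (H : Set G) := by
    rw [← Subgroup.normal_mul, hKH']; exact Set.mem_univ g
  obtain ⟨k, hk, h, hh, rfl⟩ := Set.mem_mul.mp hgmem
  exact ⟨k, hk, h, hh, rfl⟩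

theorem frob_mul_injective (K H : Subgroup G) (hKH : K ⊓ H = ⊥) {k k' h h' : G} (hk : k ∈ K)
    (hk' : k' ∈ K) (hh : h ∈ H) (hh' : h' ∈ H) (heq : k * h = k' * h') : k = k' ∧ h = h' := by
  have h1 : k'⁻¹ * k = h' * h⁻¹ := by
    have : k'⁻¹ * k = k'⁻¹ * (k * h) * h⁻¹ := by group
    rw [this, heq]; group
  have h2 : k'⁻¹ * k ∈ K ⊓ H :=
    ⟨K.mul_mem (K.inv_mem hk') hk, by rw [h1]; exact H.mul_mem hh' (H.inv_mem hh)⟩
  rw [hKH, Subgroup.mem_bot] at h2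
  have h3 : k = k' := (inv_mul_eq_one.mp h2).symm
  refine ⟨h3, ?_⟩
  rw [h3] at heq
  exact mul_left_cancel heq

/-- In a Frobenius group `K ⋊ H`, every element `k h` with `1 ≠ h ∈ H` is `K`-conjugate
to `h`. -/
theorem frob_conj [Finite G] (K H : Subgroup G) [hKn : K.Normal]
    (hfpf : ∀ h ∈ H, h ≠ 1 → ∀ k ∈ K, h * k = k * h → k = 1)
    (k h : G) (hk : k ∈ K) (hh : h ∈ H) (hh1 : h ≠ 1) : ∃ u ∈ K, k * h = u * h * u⁻¹ := by
  let f : K → K := fun u =>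
    ⟨u * (h * u * h⁻¹)⁻¹, K.mul_mem u.2 (K.inv_mem (hKn.conj_mem u u.2 h))⟩
  have hf : Function.Injective f := by
    intro u v huv
    have h1 : (u : G) * (h * u * h⁻¹)⁻¹ = v * (h * v * h⁻¹)⁻¹ := congrArg Subtype.val huv
    have h2 : h * ((v : G)⁻¹ * u) = ((v : G)⁻¹ * u) * h := by
      have : (u : G) * h * (u : G)⁻¹ = v * h * (v : G)⁻¹ := by
        have e1 : (u : G) * (h * u * h⁻¹)⁻¹ = u * h * (u : G)⁻¹ * h⁻¹ := by group
        have e2 : (v : G) * (h * v * h⁻¹)⁻¹ = v * h * (v : G)⁻¹ * h⁻¹ := by group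
        rw [e1, e2] at h1
        exact mul_right_cancel h1
      calc h * ((v : G)⁻¹ * u) = (v : G)⁻¹ * (v * h * (v : G)⁻¹) * u := by group
        _ = (v : G)⁻¹ * (u * h * (u : G)⁻¹) * u := by rw [this]
        _ = ((v : G)⁻¹ * u) * h := by group
    have h3 := hfpf h hh hh1 ((v : G)⁻¹ * u) (K.mul_mem (K.inv_mem v.2) u.2) h2
    apply Subtype.ext
    exact (inv_mul_eq_one.mp h3).symm
  have hsurj : Function.Surjective f := Finite.injective_iff_surjective.mp hf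
  obtain ⟨u, hu⟩ := hsurj ⟨k, hk⟩
  have hu' : (u : G) * (h * u * h⁻¹)⁻¹ = k := congrArg Subtype.val hu
  exact ⟨u, u.2, by rw [← hu']; group⟩

/-- In a Frobenius group, an element outside the kernel commutes with no non-identity element
of the kernel. -/
theorem frob_not_commute [Finite G] (K H : Subgroup G) [hKn : K.Normal]
    (hKH' : K ⊔ H = ⊤) (hfpf : ∀ h ∈ H, h ≠ 1 → ∀ k ∈ K, h * k = k * h → k = 1)
    (g : G) (hg : g ∉ K) (x : G) (hx : x ∈ K) (hc : g * x = x * g) : x = 1 := by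
  obtain ⟨k, hk, h, hh, rfl⟩ := frob_exists_mul K H hKH' g
  have hh1 : h ≠ 1 := by
    rintro rfl
    exact hg (by simpa using hk)
  obtain ⟨u, huK, hkh⟩ := frob_conj K H hfpf k h hk hh hh1
  rw [hkh] at hc
  have h4 : h * (u⁻¹ * x * u) = (u⁻¹ * x * u) * h := by
    calc h * (u⁻¹ * x * u) = u⁻¹ * ((u * h * u⁻¹) * x) * u := by group
      _ = u⁻¹ * (x * (u * h * u⁻¹)) * u := by rw [hc]
      _ = (u⁻¹ * x * u) * h := by group
  have h5 := hfpf h hh hh1 (u⁻¹ * x * u) (by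
    have := hKn.conj_mem x hx u⁻¹
    simpa using this) h4
  have h6 : x = u * (u⁻¹ * x * u) * u⁻¹ := by group
  rw [h6, h5]; group

/-- In a Frobenius group, the centralizer of a non-identity element of the complement lies in
the complement. -/
theorem frob_centralizer_compl (K H : Subgroup G) [hKn : K.Normal] (hKH : K ⊓ H = ⊥)
    (hKH' : K ⊔ H = ⊤) (hfpf : ∀ h ∈ H, h ≠ 1 → ∀ k ∈ K, h * k = k * h → k = 1)
    (g h : G) (hh : h ∈ H) (hh1 : h ≠ 1) (hc : g * h = h * g) : g ∈ H := by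
  obtain ⟨k₁, hk₁, h₁, hh₁, rfl⟩ := frob_exists_mul K H hKH' g
  have hh''H : h₁ * h * h₁⁻¹ ∈ H := H.mul_mem (H.mul_mem hh₁ hh) (H.inv_mem hh₁)
  have h1 : k₁ * (h₁ * h * h₁⁻¹) * k₁⁻¹ = h := by
    have h0 : (k₁ * h₁) * h * (k₁ * h₁)⁻¹ = h := by rw [hc]; group
    have h0' : k₁ * (h₁ * h * h₁⁻¹) * k₁⁻¹ = (k₁ * h₁) * h * (k₁ * h₁)⁻¹ := by group
    exact h0'.trans h0
  have h2 : h * (h₁ * h * h₁⁻¹)⁻¹ ∈ K ⊓ H := by
    refine ⟨?_, H.mul_mem hh (H.inv_mem hh''H)⟩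
    have : h * (h₁ * h * h₁⁻¹)⁻¹ =
        k₁ * ((h₁ * h * h₁⁻¹) * k₁⁻¹ * (h₁ * h * h₁⁻¹)⁻¹) := by
      have e : k₁ * ((h₁ * h * h₁⁻¹) * k₁⁻¹ * (h₁ * h * h₁⁻¹)⁻¹) =
          (k₁ * (h₁ * h * h₁⁻¹) * k₁⁻¹) * (h₁ * h * h₁⁻¹)⁻¹ := by group
      rw [e, h1]
    rw [this]
    exact K.mul_mem hk₁ (hKn.conj_mem _ (K.inv_mem hk₁) _)
  rw [hKH, Subgroup.mem_bot] at h2
  have h3 : h = h₁ * h * h₁⁻¹ := by rwa [mul_inv_eq_one] at h2
  rw [← h3] at h1
  have h4 : h * k₁ = k₁ * h := by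
    calc h * k₁ = (k₁ * h * k₁⁻¹) * k₁ := by rw [h1]
      _ = k₁ * h := by group
  have h5 := hfpf h hh hh1 k₁ hk₁ h4
  rw [h5, one_mul]; exact hh₁

/-- The sum of the centralizer orders is the class number times the group order. -/
theorem sum_commute_card (X : Type*) [Group X] [Fintype X] :
    ∑ g : X, Nat.card {b : X // g * b = b * g} = Nat.card (ConjClasses X) * Nat.card X := by
  rw [← card_comm_eq_card_conjClasses_mul_card X]
  rw [Nat.card_congr (Equiv.subtypeProdEquivSigmaSubtype (fun a b : X => Commute a b))]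
  rw [Nat.card_sigma]
  rfl

end Frob

end Cfsg.Agent.Helper2
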