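import Mathlib
import Cfsg.Agent.Helper2.CharExtra

set_option autoImplicit false

namespace Cfsg.Agent.Helper2

open Cfsg
open scoped ComplexConjugate

section CenterDeg

/-- For a faithful irreducible complex representation, the degree divides the index of the
centre. -/
theorem faithful_dvd_index_center {G : Type*} [Group G] [Fintype G] {V : Type*} [AddCommGroup V]
    [Module ℂ V] [FiniteDimensional ℂ V] (ρ : Representation ℂ G V) [ρ.IsIrreducible]
    (hf : Function.Injective ρ) :
    Module.finrank ℂ V ∣ (Subgroup.center G).index := by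
  classical
  obtain ⟨d, hd⟩ : ∃ d : ℕ, d = Module.finrank ℂ V := ⟨_, rfl⟩
  rw [← hd]
  have hVnt : Nontrivial V := Helper25.nontrivial_of_irreducible ρ inferInstance
  have hd0 : d ≠ 0 := by rw [hd]; exact (Module.finrank_pos).ne'
  have hdC : (d : ℂ) ≠ 0 := by exact_mod_cast hd0
  have hscal : ∀ z ∈ Subgroup.center G, ∃ c : ℂ, ρ z = c • (1 : Module.End ℂ V) := by
    intro z hz
    apply Helper1.exists_scalar_of_commute ρ (ρ z)
    intro g
    have : z * g = g * z := (Subgroup.mem_center_iff.mp hz g).symm
    show ρ z * ρ g = ρ g * ρ z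
    rw [← map_mul, ← map_mul, this]
  have hχz : ∀ z : G, ∀ c : ℂ, ρ z = c • (1 : Module.End ℂ V) →
      ∀ g, ρ.character (z * g) = c * ρ.character g := by
    intro z c hc g
    unfold Representation.character
    rw [map_mul, hc, smul_mul_assoc, one_mul, map_smul, smul_eq_mul]
  have hfree : ∀ z ∈ Subgroup.center G, ∀ g, ρ.character g ≠ 0 →
      ρ.character (z * g) = ρ.character g → z = 1 := by
    intro z hz g hg heq
    obtain ⟨c, hc⟩ := hscal z hz
    rw [hχz z c hc g] at heq
    have hc1 : c = 1 := by
      have : (c - 1) * ρ.character g = 0 := by linear_combination heq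
      rcases mul_eq_zero.mp this with h | h
      · linear_combination h
      · exact absurd h hg
    apply hf
    rw [hc, hc1, one_smul, map_one]
  obtain ⟨Ψ, hΨ⟩ : ∃ Ψ : G → ℂ, ∀ g, Ψ g = ρ.character g * ρ.character g⁻¹ := ⟨_, fun _ => rfl⟩
  have hΨz : ∀ z ∈ Subgroup.center G, ∀ g, Ψ (z * g) = Ψ g := by
    intro z hz g
    obtain ⟨c, hc⟩ := hscal z hz
    obtain ⟨c', hc'⟩ := hscal z⁻¹ (inv_mem hz)
    have hcc : c * c' = 1 := by
      have h1 : ρ z * ρ z⁻¹ = 1 := by rw [← map_mul, mul_inv_cancel, map_one]
      rw [hc, hc', smul_mul_smul_comm, one_mul] at h1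
      have h2 := congrArg (LinearMap.trace ℂ V) h1
      rw [map_smul, smul_eq_mul, LinearMap.trace_one, ← hd] at h2
      have h3 : (c * c' - 1) * (d : ℂ) = 0 := by linear_combination h2
      rcases mul_eq_zero.mp h3 with h | h
      · linear_combination h
      · exact absurd h hdC
    have e : (z * g)⁻¹ = z⁻¹ * g⁻¹ := by
      rw [mul_inv_rev]; exact (Subgroup.mem_center_iff.mp (inv_mem hz) g⁻¹)
    rw [hΨ, hΨ, e, hχz z c hc g, hχz z⁻¹ c' hc' g⁻¹]
    linear_combination (ρ.character g * ρ.character g⁻¹) * hcc
  have hΨconj : ∀ u g, Ψ (u * g * u⁻¹) = Ψ g := by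
    intro u g
    have e : (u * g * u⁻¹)⁻¹ = u * g⁻¹ * u⁻¹ := by group
    rw [hΨ, hΨ, e, Representation.char_conj, Representation.char_conj]
  let r : Setoid G :=
    { r := fun g h => ∃ z ∈ Subgroup.center G, ∃ u : G, h = z * (u * g * u⁻¹)
      iseqv :=
        { refl := fun g => ⟨1, one_mem _, 1, by simp⟩
          symm := by
            rintro g h ⟨z, hz, u, rfl⟩
            refine ⟨z⁻¹, inv_mem hz, u⁻¹, ?_⟩
            have hzc : ∀ x, x * z = z * x := fun x => Subgroup.mem_center_iff.mp hz x
            have : u⁻¹ * (z * (u * g * u⁻¹)) * u⁻¹⁻¹ = z * g := by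
              rw [← mul_assoc u⁻¹ z, hzc u⁻¹]; group
            rw [this]; group
          trans := by
            rintro g h k ⟨z, hz, u, rfl⟩ ⟨z', hz', u', rfl⟩
            refine ⟨z' * z, mul_mem hz' hz, u' * u, ?_⟩
            have hzc : ∀ x, x * z = z * x := fun x => Subgroup.mem_center_iff.mp hz x
            have : u' * (z * (u * g * u⁻¹)) * u'⁻¹ = z * (u' * u * g * (u' * u)⁻¹) := by
              rw [← mul_assoc u' z, hzc u']; group
            rw [this]; group } }
  have hmem : ∀ (q : Quotient r) (h : G), Quotient.mk r h = q ↔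
      ∃ z ∈ Subgroup.center G, ∃ x, IsConj x (Quotient.out q) ∧ h = z * x := by
    intro q h
    constructor
    · intro hq
      have h1 : Quotient.mk r (Quotient.out q) = Quotient.mk r h := by
        rw [hq]; exact Quotient.out_eq q
      obtain ⟨z, hz, u, hu⟩ := Quotient.exact h1
      exact ⟨z, hz, u * Quotient.out q * u⁻¹, isConj_iff.mpr ⟨u⁻¹, by group⟩, hu⟩
    · rintro ⟨z, hz, x, hx, rfl⟩
      obtain ⟨c, hc⟩ := isConj_iff.mp hx
      have h1 : Quotient.mk r (Quotient.out q) = Quotient.mk r (z * x) := by
        apply Quotient.sound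
        refine ⟨z, hz, c⁻¹, ?_⟩
        rw [← hc]; group
      rw [← h1]; exact Quotient.out_eq q
  have hΨinv : ∀ (q : Quotient r) (h : G), Quotient.mk r h = q → Ψ h = Ψ (Quotient.out q) := by
    intro q h hq
    obtain ⟨z, hz, x, hx, rfl⟩ := (hmem q h).mp hq
    obtain ⟨c, hc⟩ := isConj_iff.mp hx
    rw [hΨz z hz, ← hc, hΨconj]
  have hcount : ∀ q : Quotient r, ρ.character (Quotient.out q) ≠ 0 →
      (Finset.univ.filter (fun g => Quotient.mk r g = q)).card =
        Nat.card (Subgroup.center G) *
          (Subgroup.centralizer ({Quotient.out q} : Set G)).index := by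
    intro q hq
    have himg : Finset.univ.filter (fun g => Quotient.mk r g = q) =
        Finset.image (fun p : G × G => p.1 * p.2)
          ((Finset.univ.filter (fun z => z ∈ Subgroup.center G)) ×ˢ
            (Finset.univ.filter (fun x => IsConj x (Quotient.out q)))) := by
      ext h
      simp only [Finset.mem_filter, Finset.mem_univ, true_and, Finset.mem_image,
        Finset.mem_product, Prod.exists]
      rw [hmem q h]
      constructor
      · rintro ⟨z, hz, x, hx, rfl⟩
        exact ⟨z, x, ⟨hz, hx⟩, rfl⟩
      · rintro ⟨z, x, ⟨hz, hx⟩, rfl⟩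
        exact ⟨z, hz, x, hx, rfl⟩
    rw [himg, Finset.card_image_of_injOn, Finset.card_product]
    · congr 1
      · rw [Nat.card_eq_fintype_card, Fintype.card_subtype]
      · rw [Helper1.index_centralizer_eq_ncard, Set.ncard_eq_toFinset_card']
        congr 1
        ext x
        simp
    · rintro ⟨z, x⟩ hzx ⟨z', x'⟩ hzx' heq
      simp only [Finset.coe_product, Finset.coe_filter, Finset.mem_univ, true_and,
        Set.mem_prod, Set.mem_ofPred_eq] at hzx hzx'
      have heq' : z * x = z' * x' := heq
      have hx' : x' = (z'⁻¹ * z) * x := by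
        rw [mul_assoc, heq']; group
      have hχx : ρ.character x = ρ.character (Quotient.out q) := by
        obtain ⟨c, hc⟩ := isConj_iff.mp hzx.2
        rw [← hc, Representation.char_conj]
      have hχx' : ρ.character x' = ρ.character (Quotient.out q) := by
        obtain ⟨c, hc⟩ := isConj_iff.mp hzx'.2
        rw [← hc, Representation.char_conj]
      have h1 : z'⁻¹ * z = 1 := by
        apply hfree (z'⁻¹ * z) (mul_mem (inv_mem hzx'.1) hzx.1) x
        · rw [hχx]; exact hq
        · rw [← hx', hχx', hχx]
      have hz : z = z' := by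
        have := congrArg (fun t => z' * t) h1
        simpa using this
      have hx : x = x' := by
        rw [hx', h1, one_mul]
      rw [hz, hx]
  have hsumΨ : ∑ g : G, Ψ g = (Nat.card G : ℂ) := by
    have h1 := Helper1.classInner_char_self ρ
    rw [Helper1.classInner_char_char_eq] at h1
    have hG : (Nat.card G : ℂ) ≠ 0 := by exact_mod_cast Nat.card_pos.ne'
    have h2 : ∑ g : G, ρ.character g * ρ.character g⁻¹ = (Nat.card G : ℂ) := by
      field_simp at h1
      linear_combination h1
    rw [← h2]
    exact Finset.sum_congr rfl (fun g _ => hΨ g)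
  have hfib : ∑ g : G, Ψ g = ∑ q : Quotient r,
      ((Nat.card (Subgroup.center G) : ℂ) *
        ((Subgroup.centralizer ({Quotient.out q} : Set G)).index : ℂ)) * Ψ (Quotient.out q) := by
    rw [← Finset.sum_fiberwise Finset.univ (Quotient.mk r) Ψ]
    apply Finset.sum_congr rfl
    intro q _
    have h1 : ∑ g ∈ Finset.univ.filter (fun g => Quotient.mk r g = q), Ψ g =
        ∑ g ∈ Finset.univ.filter (fun g => Quotient.mk r g = q), Ψ (Quotient.out q) := by
      apply Finset.sum_congr rfl
      intro g hg
      exact hΨinv q g (Finset.mem_filter.mp hg).2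
    rw [h1, Finset.sum_const, nsmul_eq_mul]
    by_cases hq : ρ.character (Quotient.out q) = 0
    · rw [hΨ, hq]; simp
    · rw [hcount q hq]; push_cast; ring
  have hint : IsIntegral ℤ ((Nat.card G : ℂ) / ((Nat.card (Subgroup.center G) * d : ℕ) : ℂ)) := by
    have hZ : (Nat.card (Subgroup.center G) : ℂ) ≠ 0 := by exact_mod_cast Nat.card_pos.ne'
    have heq : (Nat.card G : ℂ) / ((Nat.card (Subgroup.center G) * d : ℕ) : ℂ) =
        ∑ q : Quotient r, (((Subgroup.centralizer ({Quotient.out q} : Set G)).index : ℂ) *
          ρ.character (Quotient.out q) / (Module.finrank ℂ V : ℂ)) *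
          ρ.character (Quotient.out q)⁻¹ := by
      rw [← hsumΨ, hfib, Finset.sum_div]
      apply Finset.sum_congr rfl
      intro q _
      rw [hΨ, ← hd]
      push_cast
      field_simp
    rw [heq]
    apply IsIntegral.sum
    intro q _
    exact (Helper1.isIntegral_central ρ (Quotient.out q)).mul
      (Helper1.isIntegral_char ρ (Quotient.out q)⁻¹)
  have hdvd := Helper1.dvd_of_isIntegral_div (Nat.card G) (Nat.card (Subgroup.center G) * d)
    (Nat.mul_ne_zero Nat.card_pos.ne' hd0) hint
  rw [← Subgroup.card_mul_index (Subgroup.center G)] at hdvd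
  exact Nat.dvd_of_mul_dvd_mul_left Nat.card_pos hdvd

/-- The degree of an irreducible complex representation divides the index of any subgroup
whose elements act "centrally" (e.g. by scalars). -/
theorem finrank_dvd_index_of_central {G : Type*} [Group G] [Finite G] {V : Type*}
    [AddCommGroup V] [Module ℂ V] [FiniteDimensional ℂ V] (ρ : Representation ℂ G V)
    [hρ : ρ.IsIrreducible] (H : Subgroup G)
    (hH : ∀ g ∈ H, ∀ h : G, ρ (g * h) = ρ (h * g)) :
    Module.finrank ℂ V ∣ H.index := by
  classical
  obtain ⟨N, hN⟩ : ∃ N : Subgroup G, N = MonoidHom.ker (ρ : G →* Module.End ℂ V) := ⟨_, rfl⟩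
  have hNn : N.Normal := by rw [hN]; infer_instance
  have hNle : N ≤ MonoidHom.ker (ρ : G →* Module.End ℂ V) := by rw [hN]
  let ρq : Representation ℂ (G ⧸ N) V := QuotientGroup.lift N ρ hNle
  have hρq : ∀ g : G, ρq (g : G ⧸ N) = ρ g := fun g => QuotientGroup.lift_mk N hNle g
  have hinj : Function.Injective ρq := by
    intro a b hab
    induction a using QuotientGroup.induction_on with
    | H a =>
      induction b using QuotientGroup.induction_on with
      | H b =>
        rw [hρq, hρq] at hab
        rw [QuotientGroup.eq, hN, MonoidHom.mem_ker, map_mul, ← hab, ← map_mul, inv_mul_cancel,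
          map_one]
  have hcomp : (ρq.comp (QuotientGroup.mk' N) : Representation ℂ G V) = ρ := by
    apply MonoidHom.ext
    intro g
    exact hρq g
  have hirr1 : Representation.IsIrreducible (ρq.comp (QuotientGroup.mk' N) :
      Representation ℂ G V) := by
    rw [hcomp]; exact hρ
  have hirr : ρq.IsIrreducible :=
    (subrepCompEquiv ρq (QuotientGroup.mk' N) (QuotientGroup.mk'_surjective N)).isSimpleOrder_iff.mp
      hirr1
  have : Fintype (G ⧸ N) := Fintype.ofFinite _
  have h1 := faithful_dvd_index_center ρq hinj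
  have h2 : (Subgroup.comap (QuotientGroup.mk' N) (Subgroup.center (G ⧸ N))).index =
      (Subgroup.center (G ⧸ N)).index :=
    Subgroup.index_comap_of_surjective _ (QuotientGroup.mk'_surjective N)
  have h3 : H ≤ Subgroup.comap (QuotientGroup.mk' N) (Subgroup.center (G ⧸ N)) := by
    intro g hg
    rw [Subgroup.mem_comap, Subgroup.mem_center_iff]
    intro x
    induction x using QuotientGroup.induction_on with
    | H x =>
      apply hinj
      show ρq ((x : G ⧸ N) * (g : G ⧸ N)) = ρq ((g : G ⧸ N) * (x : G ⧸ N))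
      rw [← QuotientGroup.mk_mul, ← QuotientGroup.mk_mul, hρq, hρq]
      exact (hH g hg x).symm
  rw [← h2] at h1
  exact h1.trans (Subgroup.index_dvd_of_le h3)

end CenterDeg

end Cfsg.Agent.Helper2
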