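import Mathlib

/-!
Glue arithmetic for S4016 (team effort): if every Sylow `q`-subgroup with `q ≠ p` has order
congruent to `1` modulo `p`, then `|N(P) : P| ≡ 1 (mod p)`, a complement `L` of `P` in `N(P)` has
order `≡ 1 (mod p)`, and `L ∩ C(P)` is nontrivial.
-/

namespace Cfsg.Agent.S4016P

theorem h2_ordCompl_mod {n p : ℕ} (hn : n ≠ 0) (hp : p.Prime)
    (h : ∀ q : ℕ, q.Prime → q ≠ p → q ^ (n.factorization q) % p = 1) :
    (n / p ^ n.factorization p) % p = 1 := by
  have h1 : (n / p ^ n.factorization p).factorization = n.factorization.erase p :=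
    Nat.factorization_ordCompl n p
  have hne : n / p ^ n.factorization p ≠ 0 := (Nat.ordCompl_pos p hn).ne'
  have h2 := Nat.factorization_prod_pow_eq_self hne
  rw [h1] at h2
  rw [← h2, Finsupp.prod]
  apply Finset.prod_induction (fun q => q ^ (n.factorization.erase p) q) (fun x => x % p = 1)
  · intro a b ha hb
    rw [Nat.mul_mod, ha, hb]
    simp [Nat.mod_eq_of_lt hp.one_lt]
  · exact Nat.mod_eq_of_lt hp.one_lt
  · intro q hq
    have hq' : q ≠ p := by
      intro hqp
      rw [hqp] at hq
      simp at hq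
    have hqs : q ∈ n.factorization.support := by
      rw [Finsupp.mem_support_iff] at hq ⊢
      rwa [Finsupp.erase_ne hq'] at hq
    have hqprime : q.Prime := Nat.prime_of_mem_primeFactors (by
      rwa [Nat.support_factorization] at hqs)
    rw [Finsupp.erase_ne hq']
    exact h q hqprime hq'

theorem h2_norm_index_mod {G : Type*} [Group G] [Finite G] {p : ℕ} [Fact p.Prime]
    (P : Sylow p G)
    (hQ : ∀ (q : ℕ) [Fact q.Prime], q ≠ p → ∀ Q : Sylow q G, Nat.card Q % p = 1) :
    ∃ m : ℕ, Nat.card (Subgroup.normalizer ((P : Subgroup G) : Set G)) = m * Nat.card P ∧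
      m % p = 1 := by
  have hp : p.Prime := Fact.out
  have hn : Nat.card G ≠ 0 := Nat.card_pos.ne'
  have hPcard : Nat.card P = p ^ (Nat.card G).factorization p := Sylow.card_eq_multiplicity P
  have hidx : (Nat.card G / p ^ (Nat.card G).factorization p) % p = 1 := by
    apply h2_ordCompl_mod hn hp
    intro q hq hqp
    haveI : Fact q.Prime := ⟨hq⟩
    obtain ⟨Q⟩ : Nonempty (Sylow q G) := inferInstance
    have h := hQ q hqp Q
    rwa [Sylow.card_eq_multiplicity Q] at h
  have hcm : Nat.card (P : Subgroup G) * (P : Subgroup G).index = Nat.card G :=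
    (P : Subgroup G).card_mul_index
  have hPidx : (P : Subgroup G).index = Nat.card G / p ^ (Nat.card G).factorization p := by
    rw [← hPcard, ← hcm]
    exact (Nat.mul_div_cancel_left _ Nat.card_pos).symm
  have hPN : (P : Subgroup G) ≤ Subgroup.normalizer ((P : Subgroup G) : Set G) :=
    Subgroup.le_normalizer
  have hrel := Subgroup.relIndex_mul_index hPN
  have hNidx : (Subgroup.normalizer ((P : Subgroup G) : Set G)).index % p = 1 := by
    have h1 := Sylow.card_eq_index_normalizer P
    have h2 : Nat.card (Sylow p G) ≡ 1 [MOD p] := card_sylow_modEq_one p G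
    have h3 : Nat.card (Sylow p G) % p = 1 := by
      have h4 : Nat.card (Sylow p G) % p = 1 % p := h2
      rwa [Nat.mod_eq_of_lt hp.one_lt] at h4
    rw [h1] at h3
    exact h3
  refine ⟨(P : Subgroup G).relIndex (Subgroup.normalizer ((P : Subgroup G) : Set G)), ?_, ?_⟩
  · have hNcm := (Subgroup.normalizer ((P : Subgroup G) : Set G)).card_mul_index
    have hpos : 0 < (Subgroup.normalizer ((P : Subgroup G) : Set G)).index :=
      Nat.pos_of_ne_zero (Subgroup.index_ne_zero_of_finite)
    apply Nat.eq_of_mul_eq_mul_right hpos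
    rw [hNcm, mul_assoc, mul_comm (Nat.card P), ← mul_assoc, hrel, mul_comm]
    exact hcm.symm
  · have h5 : ((P : Subgroup G).relIndex (Subgroup.normalizer ((P : Subgroup G) : Set G)) *
        (Subgroup.normalizer ((P : Subgroup G) : Set G)).index) % p = 1 := by
      rw [hrel, hPidx]
      exact hidx
    rw [Nat.mul_mod, hNidx, mul_one, Nat.mod_mod] at h5
    exact h5

theorem h2_relIndex_compl {G : Type*} [Group G] (P L N : Subgroup G)
    (hNn : N ≤ Subgroup.normalizer (P : Set G))
    (hPL : P ⊓ L = ⊥) (hsup : P ⊔ L = N) : P.relIndex N = Nat.card L := by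
  have hPN : P ≤ N := hsup ▸ le_sup_left
  have hLN : L ≤ N := hsup ▸ le_sup_right
  haveI : (P.subgroupOf N).Normal := Subgroup.normal_subgroupOf_of_le_normalizer hNn
  have h1 : (P.subgroupOf N).relIndex (P.subgroupOf N ⊔ L.subgroupOf N)
      = (P.subgroupOf N).relIndex (L.subgroupOf N) := Subgroup.relIndex_sup_left _ _
  rw [← Subgroup.subgroupOf_sup hPN hLN, hsup, Subgroup.subgroupOf_self,
    Subgroup.relIndex_top_right, Subgroup.relIndex_subgroupOf hLN] at h1
  have h2 : P.relIndex L = (P ⊓ L).relIndex L := (Subgroup.inf_relIndex_right P L).symm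
  rw [hPL, Subgroup.relIndex_bot_left] at h2
  have h3 : P.relIndex N = (P.subgroupOf N).index := rfl
  rw [h3, h1, h2]

theorem h2_compl_card_mod {G : Type*} [Group G] [Finite G] {p : ℕ} [Fact p.Prime]
    (P : Sylow p G)
    (hQ : ∀ (q : ℕ) [Fact q.Prime], q ≠ p → ∀ Q : Sylow q G, Nat.card Q % p = 1)
    (L : Subgroup G) (hPL : (P : Subgroup G) ⊓ L = ⊥)
    (hsup : (P : Subgroup G) ⊔ L = Subgroup.normalizer ((P : Subgroup G) : Set G)) :
    Nat.card L % p = 1 := by
  obtain ⟨m, hm, hmp⟩ := h2_norm_index_mod P hQ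
  have h1 := h2_relIndex_compl (P : Subgroup G) L _ le_rfl hPL hsup
  have hPN : (P : Subgroup G) ≤ Subgroup.normalizer ((P : Subgroup G) : Set G) :=
    Subgroup.le_normalizer
  have h2 := Subgroup.relIndex_mul_index hPN
  have hNcm := (Subgroup.normalizer ((P : Subgroup G) : Set G)).card_mul_index
  have hcm : Nat.card (P : Subgroup G) * (P : Subgroup G).index = Nat.card G :=
    (P : Subgroup G).card_mul_index
  have hpos : 0 < (Subgroup.normalizer ((P : Subgroup G) : Set G)).index :=
    Nat.pos_of_ne_zero (Subgroup.index_ne_zero_of_finite)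
  have hPpos : 0 < Nat.card (P : Subgroup G) := Nat.card_pos
  have h3 : Nat.card (Subgroup.normalizer ((P : Subgroup G) : Set G))
      = Nat.card L * Nat.card (P : Subgroup G) := by
    apply Nat.eq_of_mul_eq_mul_right hpos
    rw [hNcm, mul_assoc, mul_comm (Nat.card (P : Subgroup G)), ← mul_assoc, ← h1, h2, mul_comm]
    exact hcm.symm
  have h4 : m = Nat.card L := by
    apply Nat.eq_of_mul_eq_mul_right hPpos
    rw [← h3]
    exact hm.symm
  rw [← h4]
  exact hmp

theorem h2_L0_ne_bot {G : Type*} [Group G] [Finite G] {p : ℕ} [Fact p.Prime]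
    (P : Sylow p G)
    (hQ : ∀ (q : ℕ) [Fact q.Prime], q ≠ p → ∀ Q : Sylow q G, Nat.card Q % p = 1)
    (L : Subgroup G) (hPL : (P : Subgroup G) ⊓ L = ⊥)
    (hsup : (P : Subgroup G) ⊔ L = Subgroup.normalizer ((P : Subgroup G) : Set G))
    (hdvd : Nat.card L ∣
      (p - 1) * Nat.card ↥(L ⊓ Subgroup.centralizer ((P : Subgroup G) : Set G)))
    (hne : ¬ L ≤ Subgroup.centralizer ((P : Subgroup G) : Set G)) :
    L ⊓ Subgroup.centralizer ((P : Subgroup G) : Set G) ≠ ⊥ := by
  have hp : p.Prime := Fact.out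
  intro h0
  have hmod := h2_compl_card_mod P hQ L hPL hsup
  rw [h0, Subgroup.card_bot, mul_one] at hdvd
  have hle : Nat.card L ≤ p - 1 := Nat.le_of_dvd (by have := hp.two_le; omega) hdvd
  have hlt : Nat.card L < p := by have := hp.two_le; omega
  rw [Nat.mod_eq_of_lt hlt] at hmod
  have hLbot : L = ⊥ := Subgroup.card_eq_one.mp hmod
  exact hne (hLbot ▸ bot_le)

end Cfsg.Agent.S4016P
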