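import Mathlib
import Cfsg.Agent.Helper2.S4016G
import Cfsg.Agent.Helper12.S4016B

/-!
More glue for S4016 (team effort): a complement `L` of a cyclic Sylow `p`-subgroup `P` in its
normalizer (Schur-Zassenhaus), abelian by the hypothesis on `p'`-subgroups, with the order
formulas for `N(P)` and `C(P)`.
-/

namespace Cfsg.Agent.S4016P

theorem h2_card_eq_relIndex_mul {G : Type*} [Group G] {H K : Subgroup G} (h : H ≤ K) :
    Nat.card K = H.relIndex K * Nat.card H := by
  have h1 := (H.subgroupOf K).card_mul_index
  have h2 : Nat.card (H.subgroupOf K) = Nat.card H :=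
    Nat.card_congr (Subgroup.subgroupOfEquivOfLe h).toEquiv
  rw [h2] at h1
  rw [← h1, mul_comm]
  rfl

theorem h2_exists_compl {G : Type*} [Group G] [Finite G] {p : ℕ} [Fact p.Prime]
    (P : Sylow p G) (hcyc : IsCyclic P)
    (hab : ∀ H : Subgroup G, ¬ p ∣ Nat.card H → IsMulCommutative H) :
    ∃ L : Subgroup G, (P : Subgroup G) ⊓ L = ⊥ ∧
      (P : Subgroup G) ⊔ L = Subgroup.normalizer ((P : Subgroup G) : Set G) ∧
      ¬ p ∣ Nat.card L ∧ (∀ a ∈ L, ∀ b ∈ L, a * b = b * a) ∧
      Nat.card (Subgroup.normalizer ((P : Subgroup G) : Set G)) = Nat.card L * Nat.card P ∧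
      Nat.card (Subgroup.centralizer ((P : Subgroup G) : Set G))
        = Nat.card ↥(L ⊓ Subgroup.centralizer ((P : Subgroup G) : Set G)) * Nat.card P ∧
      Nat.card L ∣
        (p - 1) * Nat.card ↥(L ⊓ Subgroup.centralizer ((P : Subgroup G) : Set G)) := by
  classical
  have hp : p.Prime := Fact.out
  have hPN : (P : Subgroup G) ≤ Subgroup.normalizer ((P : Subgroup G) : Set G) :=
    Subgroup.le_normalizer
  have hPC : (P : Subgroup G) ≤ Subgroup.centralizer ((P : Subgroup G) : Set G) := by
    obtain ⟨g, hg⟩ := hcyc.exists_generator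
    intro x hx y hy
    obtain ⟨i, hi⟩ := Subgroup.mem_zpowers_iff.mp (hg ⟨x, hx⟩)
    obtain ⟨j, hj⟩ := Subgroup.mem_zpowers_iff.mp (hg ⟨y, hy⟩)
    have hx' : x = ((g ^ i : (P : Subgroup G)) : G) := by rw [hi]
    have hy' : y = ((g ^ j : (P : Subgroup G)) : G) := by rw [hj]
    rw [hx', hy', ← Subgroup.coe_mul, ← Subgroup.coe_mul, ← zpow_add, ← zpow_add, add_comm]
  have hCN : Subgroup.centralizer ((P : Subgroup G) : Set G)
      ≤ Subgroup.normalizer ((P : Subgroup G) : Set G) :=
    Subgroup.centralizer_le_normalizer _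
  -- Schur-Zassenhaus inside the normalizer
  have hcop : Nat.Coprime
      (Nat.card ((P : Subgroup G).subgroupOf (Subgroup.normalizer ((P : Subgroup G) : Set G))))
      ((P : Subgroup G).subgroupOf (Subgroup.normalizer ((P : Subgroup G) : Set G))).index := by
    have h2 : Nat.card ((P : Subgroup G).subgroupOf
        (Subgroup.normalizer ((P : Subgroup G) : Set G))) = Nat.card (P : Subgroup G) :=
      Nat.card_congr (Subgroup.subgroupOfEquivOfLe hPN).toEquiv
    rw [h2]
    exact Nat.Coprime.coprime_dvd_right (Subgroup.relIndex_dvd_index_of_le hPN)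
      P.card_coprime_index
  obtain ⟨L', hL'⟩ := Subgroup.exists_right_complement'_of_coprime hcop
  have hinj : Function.Injective
      (Subgroup.normalizer ((P : Subgroup G) : Set G)).subtype := Subtype.val_injective
  have hPL : (P : Subgroup G) ⊓ L'.map (Subgroup.normalizer ((P : Subgroup G) : Set G)).subtype
      = ⊥ := by
    have h1 := hL'.disjoint.eq_bot
    have h2 := congrArg
      (Subgroup.map (Subgroup.normalizer ((P : Subgroup G) : Set G)).subtype) h1
    rw [Subgroup.map_inf _ _ _ hinj, Subgroup.subgroupOf_map_subtype, Subgroup.map_bot,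
      inf_eq_left.mpr hPN] at h2
    exact h2
  have hsup : (P : Subgroup G) ⊔ L'.map (Subgroup.normalizer ((P : Subgroup G) : Set G)).subtype
      = Subgroup.normalizer ((P : Subgroup G) : Set G) := by
    have h1 := hL'.sup_eq_top
    have h2 := congrArg
      (Subgroup.map (Subgroup.normalizer ((P : Subgroup G) : Set G)).subtype) h1
    rw [Subgroup.map_sup, Subgroup.subgroupOf_map_subtype, inf_eq_left.mpr hPN,
      ← MonoidHom.range_eq_map, Subgroup.range_subtype] at h2
    exact h2
  refine ⟨L'.map (Subgroup.normalizer ((P : Subgroup G) : Set G)).subtype, hPL, hsup, ?_⟩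
  have hLN : L'.map (Subgroup.normalizer ((P : Subgroup G) : Set G)).subtype
      ≤ Subgroup.normalizer ((P : Subgroup G) : Set G) := by
    intro x hx
    obtain ⟨y, _, rfl⟩ := hx
    exact y.2
  have hrel := h2_relIndex_compl (P : Subgroup G) _ _ le_rfl hPL hsup
  have hNcard := h2_card_eq_relIndex_mul hPN
  rw [hrel] at hNcard
  have hnp : ¬ p ∣ Nat.card (L'.map (Subgroup.normalizer ((P : Subgroup G) : Set G)).subtype) := by
    rw [← hrel]
    intro hdvd
    have h3 : p ∣ (P : Subgroup G).index := hdvd.trans (Subgroup.relIndex_dvd_index_of_le hPN)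
    exact P.not_dvd_index h3
  have hcomm : ∀ a ∈ L'.map (Subgroup.normalizer ((P : Subgroup G) : Set G)).subtype,
      ∀ b ∈ L'.map (Subgroup.normalizer ((P : Subgroup G) : Set G)).subtype, a * b = b * a := by
    intro a ha b hb
    have hc := (hab _ hnp).is_comm.comm ⟨a, ha⟩ ⟨b, hb⟩
    exact congrArg Subtype.val hc
  refine ⟨hnp, hcomm, hNcard, ?_, ?_⟩
  · -- |C| = |L ⊓ C| * |P|
    haveI : ((Subgroup.centralizer ((P : Subgroup G) : Set G)).subgroupOf
        (Subgroup.normalizer ((P : Subgroup G) : Set G))).Normal := inferInstance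
    have h1 := Subgroup.relIndex_sup_right
      ((L'.map (Subgroup.normalizer ((P : Subgroup G) : Set G)).subtype).subgroupOf
        (Subgroup.normalizer ((P : Subgroup G) : Set G)))
      ((Subgroup.centralizer ((P : Subgroup G) : Set G)).subgroupOf
        (Subgroup.normalizer ((P : Subgroup G) : Set G)))
    have htop : L'.map (Subgroup.normalizer ((P : Subgroup G) : Set G)).subtype
        ⊔ Subgroup.centralizer ((P : Subgroup G) : Set G)
        = Subgroup.normalizer ((P : Subgroup G) : Set G) := by
      apply le_antisymm (sup_le hLN hCN)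
      exact hsup.symm.le.trans (sup_le (hPC.trans le_sup_right) le_sup_left)
    rw [← Subgroup.subgroupOf_sup hLN hCN, htop, Subgroup.subgroupOf_self,
      Subgroup.relIndex_top_right, Subgroup.relIndex_subgroupOf hLN] at h1
    have h1' : (Subgroup.centralizer ((P : Subgroup G) : Set G)).relIndex
        (Subgroup.normalizer ((P : Subgroup G) : Set G))
        = (Subgroup.centralizer ((P : Subgroup G) : Set G)).relIndex
          (L'.map (Subgroup.normalizer ((P : Subgroup G) : Set G)).subtype) := h1
    have h4 := h2_card_eq_relIndex_mul hCN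
    have h5 := h2_card_eq_relIndex_mul (inf_le_left :
      L'.map (Subgroup.normalizer ((P : Subgroup G) : Set G)).subtype
        ⊓ Subgroup.centralizer ((P : Subgroup G) : Set G)
        ≤ L'.map (Subgroup.normalizer ((P : Subgroup G) : Set G)).subtype)
    rw [Subgroup.inf_relIndex_left] at h5
    rw [h1'] at h4
    have hpos : 0 < (Subgroup.centralizer ((P : Subgroup G) : Set G)).relIndex
        (L'.map (Subgroup.normalizer ((P : Subgroup G) : Set G)).subtype) := by
      rcases Nat.eq_zero_or_pos ((Subgroup.centralizer ((P : Subgroup G) : Set G)).relIndex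
        (L'.map (Subgroup.normalizer ((P : Subgroup G) : Set G)).subtype)) with h0 | h0
      · rw [h0, zero_mul] at h5
        exact absurd h5 Nat.card_pos.ne'
      · exact h0
    apply Nat.eq_of_mul_eq_mul_left hpos
    rw [← h4, hNcard, h5, mul_assoc]
  · -- |L| ∣ (p-1) * |L ⊓ C|
    haveI : ((Subgroup.centralizer ((P : Subgroup G) : Set G)).subgroupOf
        (Subgroup.normalizer ((P : Subgroup G) : Set G))).Normal := inferInstance
    have h1 : ((Subgroup.centralizer ((P : Subgroup G) : Set G)).subgroupOf
        (Subgroup.normalizer ((P : Subgroup G) : Set G))).relIndex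
        ((L'.map (Subgroup.normalizer ((P : Subgroup G) : Set G)).subtype).subgroupOf
          (Subgroup.normalizer ((P : Subgroup G) : Set G)))
        ∣ ((Subgroup.centralizer ((P : Subgroup G) : Set G)).subgroupOf
        (Subgroup.normalizer ((P : Subgroup G) : Set G))).index :=
      Subgroup.relIndex_dvd_index_of_normal _ _
    rw [Subgroup.relIndex_subgroupOf hLN] at h1
    have h2 : (Subgroup.centralizer ((P : Subgroup G) : Set G)).relIndex
        (L'.map (Subgroup.normalizer ((P : Subgroup G) : Set G)).subtype)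
        ∣ (Subgroup.centralizer ((P : Subgroup G) : Set G)).relIndex
          (Subgroup.normalizer ((P : Subgroup G) : Set G)) := h1
    have h3 := card_norm_dvd P hcyc
    have h4 := h2_card_eq_relIndex_mul hCN
    rw [h4] at h3
    have h6 : (Subgroup.centralizer ((P : Subgroup G) : Set G)).relIndex
          (Subgroup.normalizer ((P : Subgroup G) : Set G)) ∣ p - 1 :=
      Nat.dvd_of_mul_dvd_mul_right Nat.card_pos h3
    have h5 := h2_card_eq_relIndex_mul (inf_le_left :
      L'.map (Subgroup.normalizer ((P : Subgroup G) : Set G)).subtype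
        ⊓ Subgroup.centralizer ((P : Subgroup G) : Set G)
        ≤ L'.map (Subgroup.normalizer ((P : Subgroup G) : Set G)).subtype)
    rw [Subgroup.inf_relIndex_left] at h5
    rw [h5]
    exact Nat.mul_dvd_mul_right (h2.trans h6) _

end Cfsg.Agent.S4016P
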