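import Mathlib
import Cfsg.Agent.S0961
import Cfsg.Agent.Helper2.BlockCov2
import Cfsg.Agent.Helper25.BlockBF
import Cfsg.Agent.Helper7.BrauerHom
import Cfsg.Agent.Helper7.Defect

/-!
# Characters of maximal `p`-defect relative to a central `p`-subgroup (helper2)
-/

set_option autoImplicit false
open Cfsg Cfsg.Agent.Helper25 Cfsg.Agent.Helper7
open scoped ComplexConjugate

namespace Cfsg.Agent.Helper2

universe u
variable {G : Type u} [Group G] {p : ℕ} {M : Ideal AlgInt}

/-- A central element acts on an irreducible character through a scalar of norm one. -/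
theorem irr_central_mul [Finite G] (χ : IrrCharacter G) (z : G) (hz : z ∈ Subgroup.center G) :
    ∃ c : ℂ, ‖c‖ = 1 ∧ ∀ g : G, (χ : G → ℂ) (z * g) = c * (χ : G → ℂ) g := by
  obtain ⟨n, ρ, hρ, hχ⟩ := χ.2
  haveI := hρ
  have hcomm : ∀ g, ρ z ∘ₗ ρ g = ρ g ∘ₗ ρ z := by
    intro g
    rw [← Module.End.mul_eq_comp, ← Module.End.mul_eq_comp, ← map_mul, ← map_mul,
      (Subgroup.mem_center_iff.mp hz g)]
  obtain ⟨c, hc⟩ := Helper1.exists_scalar_of_commute ρ (ρ z) hcomm
  have hmul : ∀ g : G, (χ : G → ℂ) (z * g) = c * (χ : G → ℂ) g := by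
    intro g
    rw [← hχ]
    simp only [Representation.character, map_mul, hc]
    rw [Module.End.mul_eq_comp, LinearMap.smul_comp, LinearMap.id_comp, map_smul, smul_eq_mul]
  refine ⟨c, ?_, hmul⟩
  have hpow : ∀ k : ℕ, (χ : G → ℂ) (z ^ k) = c ^ k * (χ : G → ℂ) 1 := by
    intro k
    induction k with
    | zero => simp
    | succ k ih =>
      rw [pow_succ', hmul, ih, pow_succ']
      ring
  have h1 := hpow (orderOf z)
  rw [pow_orderOf_eq_one] at h1
  have hc1 : c ^ orderOf z = 1 := by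
    have h0 := irr_one_ne_zero χ
    have : (c ^ orderOf z - 1) * (χ : G → ℂ) 1 = 0 := by
      rw [sub_mul, one_mul, ← h1, sub_self]
    rcases mul_eq_zero.mp this with h | h
    · exact sub_eq_zero.mp h
    · exact absurd h h0
  exact Complex.norm_eq_one_of_pow_eq_one hc1 (orderOf_pos z).ne'

/-- `[χ°, ψ]` is an integer divided by `p ^ (a - c)`, `p^a = |G|_p`, `p^c = χ(1)_p`. -/
theorem classInner_pRegular_int [Fintype G] (hM : IsPModular p M) (χ ψ : IrrCharacter G) :
    ∃ m : ℤ, classInner (pRegularPart p (χ : G → ℂ)) (ψ : G → ℂ) *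
      (p : ℂ) ^ ((Nat.card G).factorization p - (charDegree (χ : G → ℂ)).factorization p)
        = m := by
  classical
  have hp := hM.1
  haveI : Fact p.Prime := ⟨hp⟩
  set a := (Nat.card G).factorization p with ha
  set d := charDegree (χ : G → ℂ) with hd
  set c := d.factorization p with hc
  have hdpos : 0 < d := irr_degree_pos χ
  have hddvd : d ∣ Nat.card G := irr_degree_dvd_card χ
  have hN0 : Nat.card G ≠ 0 := Nat.card_pos.ne'
  have hca : c ≤ a := by
    have := (Nat.factorization_le_iff_dvd hdpos.ne' hN0).mpr hddvd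
    exact this p
  have hgen := Cfsg.Agent.S0961.result p χ
  have hfun : (fun x : G => if p ∣ orderOf x then 0 else ((p ^ a : ℕ) : ℂ) * (χ : G → ℂ) x)
      = ((p ^ a : ℕ) : ℂ) • pRegularPart p (χ : G → ℂ) := by
    funext x
    simp only [Pi.smul_apply, smul_eq_mul]
    by_cases hx : p ∣ orderOf x
    · rw [if_pos hx, pRegularPart_of_sing hx, mul_zero]
    · rw [if_neg hx, pRegularPart_of_reg hx]
  rw [hfun] at hgen
  obtain ⟨n, hn⟩ : ∃ n : ℤ, classInner (((p ^ a : ℕ) : ℂ) • pRegularPart p (χ : G → ℂ))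
      (ψ : G → ℂ) = n := by
    obtain ⟨χ₁, χ₂, h₁, h₂, he⟩ := hgen
    obtain ⟨m₁, hm₁⟩ := classInner_char_nat h₁ (isCharacter_of_isIrrCharacter ψ.2)
    obtain ⟨m₂, hm₂⟩ := classInner_char_nat h₂ (isCharacter_of_isIrrCharacter ψ.2)
    refine ⟨(m₁ : ℤ) - m₂, ?_⟩
    rw [he, classInner_sub_left, hm₁, hm₂]
    push_cast
    ring
  rw [classInner_smul_left] at hn
  set q := classInner (pRegularPart p (χ : G → ℂ)) (ψ : G → ℂ) with hq
  have hχ1 : (χ : G → ℂ) 1 = (d : ℂ) := irr_one_eq_degree χ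
  have hd0 : (d : ℂ) ≠ 0 := by exact_mod_cast hdpos.ne'
  have hNC : (Nat.card G : ℂ) ≠ 0 := by exact_mod_cast hN0
  have hlr : MemLocalRing M (q * (Nat.card G : ℂ) / (χ : G → ℂ) 1) := by
    have e : q * (Nat.card G : ℂ) / (χ : G → ℂ) 1 = ∑ g : G,
        pRegularPart p (χ : G → ℂ) g * conj ((ψ : G → ℂ) g) / (χ : G → ℂ) 1 := by
      rw [hq]
      unfold classInner
      rw [← Finset.sum_div]
      field_simp
    rw [e]
    apply Helper25.lr_sum_classFun hM
    · intro g x
      rw [pRegularPart_conj (irr_conj χ), irr_conj]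
    · intro g
      by_cases hg : p ∣ orderOf g
      · rw [pRegularPart_of_sing hg]
        simp only [zero_mul, zero_div, mul_zero]
        exact lr_zero hM
      · rw [pRegularPart_of_reg hg]
        have e2 : ((Subgroup.centralizer ({g} : Set G)).index : ℂ) *
            ((χ : G → ℂ) g * conj ((ψ : G → ℂ) g) / (χ : G → ℂ) 1)
            = centralChar (χ : G → ℂ) g * conj ((ψ : G → ℂ) g) := by
          unfold centralChar
          ring
        rw [e2]
        refine lr_mul hM (lr_centralChar hM χ g) (lr_of_isIntegral hM ?_)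
        rw [← irr_inv]
        exact irr_isIntegral ψ _
  -- arithmetic
  obtain ⟨m', hm', hNm⟩ : ∃ m' : ℕ, ¬ p ∣ m' ∧ Nat.card G = p ^ a * m' :=
    ⟨Nat.card G / p ^ a, Nat.not_dvd_ordCompl hp hN0, (Nat.ordProj_mul_ordCompl_eq_self _ p).symm⟩
  obtain ⟨d', hd', hdd⟩ : ∃ d' : ℕ, ¬ p ∣ d' ∧ d = p ^ c * d' :=
    ⟨d / p ^ c, Nat.not_dvd_ordCompl hp hdpos.ne', (Nat.ordProj_mul_ordCompl_eq_self _ p).symm⟩
  have hpC : (p : ℂ) ≠ 0 := by exact_mod_cast hp.ne_zero
  have hm'0 : (m' : ℂ) ≠ 0 := by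
    intro h
    apply hm'
    have : m' = 0 := by exact_mod_cast h
    rw [this]
    exact dvd_zero p
  have hd'0 : (d' : ℂ) ≠ 0 := by
    intro h
    apply hd'
    have : d' = 0 := by exact_mod_cast h
    rw [this]
    exact dvd_zero p
  have hq' : q = (n : ℂ) / (p : ℂ) ^ a := by
    rw [← hn]
    push_cast
    field_simp
  have hlr2 : MemLocalRing M ((n : ℂ) / (p : ℂ) ^ c) := by
    have e : (n : ℂ) / (p : ℂ) ^ c = (q * (Nat.card G : ℂ) / (χ : G → ℂ) 1) * (d' : ℂ) * (m' : ℂ)⁻¹ := by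
      rw [hq', hχ1, hNm, hdd]
      push_cast
      field_simp
    rw [e]
    exact lr_mul hM (lr_mul hM hlr (lr_natCast hM d')) (lr_natCast_inv hM hm')
  obtain ⟨m, hm⟩ := int_dvd_of_lr_div hM n c hlr2
  refine ⟨m, ?_⟩
  rw [hq', hm]
  have hpa : (p : ℂ) ^ a = (p : ℂ) ^ c * (p : ℂ) ^ (a - c) := by
    rw [← pow_add, Nat.add_sub_cancel' hca]
  rw [hpa]
  push_cast
  field_simp

/-- A `p`-element `w` commuting with a `p`-regular `y` such that `w * y` is `p`-regular is
trivial. -/
theorem eq_one_of_ppow_mul_regular (hp : p.Prime) [Finite G] (w y : G) (hc : Commute w y) (j : ℕ)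
    (hw : w ^ p ^ j = 1) (hy : ¬ p ∣ orderOf y) (hwy : ¬ p ∣ orderOf (w * y)) : w = 1 := by
  set k := orderOf y * orderOf (w * y) with hk
  have h1 : (w * y) ^ k = 1 := by
    rw [hk, mul_comm, pow_mul, pow_orderOf_eq_one, one_pow]
  have h2 : y ^ k = 1 := by
    rw [hk, pow_mul, pow_orderOf_eq_one, one_pow]
  have h3 : w ^ k = 1 := by
    rw [hc.mul_pow, h2, mul_one] at h1
    exact h1
  have hcop : Nat.Coprime (p ^ j) k := by
    apply Nat.Coprime.pow_left
    rw [hk]
    exact Nat.Coprime.mul_right ((Nat.Prime.coprime_iff_not_dvd hp).mpr hy)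
      ((Nat.Prime.coprime_iff_not_dvd hp).mpr hwy)
  have := pow_gcd_eq_one.mpr ⟨hw, h3⟩
  rwa [hcop, pow_one] at this

open Classical in
/-- If `χ(1)_p = |G : D|_p` for a central `p`-subgroup `D`, then the `p`-regular part of `χ` has
norm `1 / |D|` and `χ` vanishes off `D × G_{p'}`. -/
theorem central_defect_vanish [Fintype G] (hM : IsPModular p M) (D : Subgroup G)
    (hD : IsPGroup p D) (hDZ : D ≤ Subgroup.center G) (χ : IrrCharacter G)
    (hdeg : (charDegree (χ : G → ℂ)).factorization p = D.index.factorization p) :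
    classInner (pRegularPart p (χ : G → ℂ)) (χ : G → ℂ) * (Nat.card D : ℂ) = 1 ∧
    ∀ g : G, (∀ z ∈ D, ∀ s : G, ¬ p ∣ orderOf s → g ≠ z * s) → (χ : G → ℂ) g = 0 := by
  have hp := hM.1
  haveI : Fact p.Prime := ⟨hp⟩
  have hN0 : Nat.card G ≠ 0 := Nat.card_pos.ne'
  have hNC : (Nat.card G : ℂ) ≠ 0 := by exact_mod_cast hN0
  -- |D| = p ^ (a - c)
  obtain ⟨j, hj⟩ := IsPGroup.exists_card_eq hD
  have hidx : Nat.card D * D.index = Nat.card G := Subgroup.card_mul_index D
  have hidx0 : D.index ≠ 0 := Subgroup.index_ne_zero_of_finite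
  have hac : (Nat.card G).factorization p - (charDegree (χ : G → ℂ)).factorization p = j := by
    rw [hdeg, ← hidx, Nat.factorization_mul (Nat.card_pos.ne') hidx0, hj]
    simp [hp.factorization_pow]
  obtain ⟨m, hm⟩ := classInner_pRegular_int hM χ χ
  rw [hac] at hm
  have hDcard : (Nat.card D : ℂ) = (p : ℂ) ^ j := by rw [hj]; push_cast; rfl
  rw [← hDcard] at hm
  -- real sums
  set r : G → ℝ := fun g => Complex.normSq ((χ : G → ℂ) g) with hr
  have hr0 : ∀ g, 0 ≤ r g := fun g => Complex.normSq_nonneg _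
  have htot : ∑ g : G, r g = Nat.card G := by
    have h1 := classInner_irr_irr χ χ
    rw [if_pos rfl] at h1
    unfold classInner at h1
    have h2 : ∑ g : G, (χ : G → ℂ) g * conj ((χ : G → ℂ) g) = ((∑ g : G, r g : ℝ) : ℂ) := by
      push_cast
      apply Finset.sum_congr rfl
      intro g _
      rw [Complex.mul_conj]
    rw [h2] at h1
    have h3 : ((∑ g : G, r g : ℝ) : ℂ) = (Nat.card G : ℂ) := by
      field_simp at h1
      exact h1
    exact_mod_cast h3
  set Reg : Finset G := Finset.univ.filter (fun s : G => ¬ p ∣ orderOf s) with hReg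
  set DF : Finset G := Finset.univ.filter (fun z : G => z ∈ D) with hDF
  have hDFcard : DF.card = Nat.card D := by
    rw [hDF, Nat.card_eq_fintype_card, Fintype.card_subtype]
  set Rr : ℝ := ∑ s ∈ Reg, r s with hRr
  have hq : classInner (pRegularPart p (χ : G → ℂ)) (χ : G → ℂ)
      = ((Rr / Nat.card G : ℝ) : ℂ) := by
    unfold classInner
    have h2 : ∑ g : G, pRegularPart p (χ : G → ℂ) g * conj ((χ : G → ℂ) g) = ((Rr : ℝ) : ℂ) := by
      rw [hRr, hReg, Finset.sum_filter]
      push_cast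
      apply Finset.sum_congr rfl
      intro g _
      by_cases hg : p ∣ orderOf g
      · rw [pRegularPart_of_sing hg, if_neg (not_not.mpr hg), zero_mul]
        simp
      · rw [pRegularPart_of_reg hg, if_pos hg, Complex.mul_conj]
    rw [h2]
    push_cast
    field_simp
  -- the product set
  set T : Finset (G × G) := DF ×ˢ Reg with hT
  have hinj : Set.InjOn (fun x : G × G => x.1 * x.2) (T : Set (G × G)) := by
    rintro ⟨z, s⟩ hzs ⟨z', s'⟩ hzs' heq
    simp only [hT, hDF, hReg, Finset.coe_product, Set.mem_prod, Finset.mem_coe,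
      Finset.mem_filter, Finset.mem_univ, true_and] at hzs hzs'
    simp only at heq
    have hw : z'⁻¹ * z ∈ D := D.mul_mem (D.inv_mem hzs'.1) hzs.1
    have hwc : Commute (z'⁻¹ * z) s :=
      ((Subgroup.mem_center_iff.mp (hDZ hw)) s).symm
    obtain ⟨j', hj'⟩ := (IsPGroup.iff_orderOf.mp hD) ⟨z'⁻¹ * z, hw⟩
    have hwpow : (z'⁻¹ * z) ^ p ^ j' = 1 := by
      have := pow_orderOf_eq_one (⟨z'⁻¹ * z, hw⟩ : D)
      rw [hj'] at this
      exact congrArg Subtype.val this
    have hws : z'⁻¹ * z * s = s' := by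
      rw [mul_assoc, heq, inv_mul_cancel_left]
    have h1 := eq_one_of_ppow_mul_regular hp (z'⁻¹ * z) s hwc j' hwpow hzs.2
      (by rw [hws]; exact hzs'.2)
    have hz : z = z' := by
      have := congrArg (fun t => z' * t) h1
      simpa using this
    subst hz
    have hs : s = s' := mul_left_cancel heq
    rw [hs]
  have himg : ∑ x ∈ T.image (fun x : G × G => x.1 * x.2), r x = (Nat.card D : ℝ) * Rr := by
    rw [Finset.sum_image hinj, hT, Finset.sum_product]
    have : ∀ z ∈ DF, ∑ s ∈ Reg, r (z * s) = Rr := by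
      intro z hz
      have hzD : z ∈ D := (Finset.mem_filter.mp hz).2
      obtain ⟨c, hc, hmul⟩ := irr_central_mul χ z (hDZ hzD)
      apply Finset.sum_congr rfl
      intro s _
      simp only [hr]
      rw [hmul, Complex.normSq_mul, Complex.normSq_eq_norm_sq, hc]
      simp
    rw [Finset.sum_congr rfl this, Finset.sum_const, hDFcard, nsmul_eq_mul]
  have hle : (Nat.card D : ℝ) * Rr ≤ Nat.card G := by
    rw [← himg, ← htot]
    exact Finset.sum_le_sum_of_subset_of_nonneg (Finset.subset_univ _) (fun g _ _ => hr0 g)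
  -- integrality
  have hDpos : (0 : ℝ) < Nat.card D := by exact_mod_cast Nat.card_pos
  have hGpos : (0 : ℝ) < Nat.card G := by exact_mod_cast Nat.card_pos
  have hmR : (Rr / Nat.card G) * (Nat.card D : ℝ) = (m : ℝ) := by
    rw [hq] at hm
    exact_mod_cast hm
  have hRpos : 0 < Rr := by
    have h1 : (1 : G) ∈ Reg := by
      rw [hReg, Finset.mem_filter]
      refine ⟨Finset.mem_univ _, ?_⟩
      rw [orderOf_one]
      exact hp.one_lt.ne' ∘ Nat.dvd_one.mp
    have h2 : r 1 ≤ Rr := Finset.single_le_sum (fun g _ => hr0 g) h1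
    have h3 : 0 < r 1 := by
      simp only [hr]
      exact Complex.normSq_pos.mpr (irr_one_ne_zero χ)
    linarith
  have hmpos : (0 : ℝ) < m := by
    rw [← hmR]
    positivity
  have hm1 : (1 : ℤ) ≤ m := by
    have : (0 : ℤ) < m := by exact_mod_cast hmpos
    omega
  have hm1' : (1 : ℝ) ≤ m := by exact_mod_cast hm1
  have hge : (Nat.card G : ℝ) ≤ (Nat.card D : ℝ) * Rr := by
    have : (Nat.card D : ℝ) * Rr = m * Nat.card G := by
      rw [← hmR]
      field_simp
    rw [this]
    nlinarith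
  have heq : (Nat.card D : ℝ) * Rr = Nat.card G := le_antisymm hle hge
  constructor
  · rw [hq]
    have : Rr / Nat.card G * (Nat.card D : ℝ) = 1 := by
      rw [div_mul_eq_mul_div, mul_comm, heq]
      exact div_self hGpos.ne'
    exact_mod_cast this
  · intro g hg
    have hgn : g ∉ T.image (fun x : G × G => x.1 * x.2) := by
      intro h
      obtain ⟨⟨z, s⟩, hzs, rfl⟩ := Finset.mem_image.mp h
      simp only [hT, hDF, hReg, Finset.mem_product, Finset.mem_filter, Finset.mem_univ,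
        true_and] at hzs
      exact hg z hzs.1 s hzs.2 rfl
    have hsplit := Finset.sum_sdiff (Finset.subset_univ (T.image (fun x : G × G => x.1 * x.2)))
      (f := r)
    rw [himg, heq, htot] at hsplit
    have hzero : ∑ x ∈ Finset.univ \ T.image (fun x : G × G => x.1 * x.2), r x = 0 := by
      linarith
    have hg0 : r g = 0 := by
      have hmem : g ∈ Finset.univ \ T.image (fun x : G × G => x.1 * x.2) :=
        Finset.mem_sdiff.mpr ⟨Finset.mem_univ _, hgn⟩
      exact (Finset.sum_eq_zero_iff_of_nonneg (fun x _ => hr0 x)).mp hzero g hmem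
    exact Complex.normSq_eq_zero.mp hg0

/-- Every character in the block of `χ` has at least as large a `p`-part of the degree. -/
theorem central_defect_degree_le [Fintype G] (hM : IsPModular p M) (D : Subgroup G)
    (hD : IsPGroup p D) (hDZ : D ≤ Subgroup.center G) (χ : IrrCharacter G)
    (hdeg : (charDegree (χ : G → ℂ)).factorization p = D.index.factorization p)
    (χ' : IrrCharacter G) (h : SameBlock M (χ : G → ℂ) (χ' : G → ℂ)) :
    (charDegree (χ : G → ℂ)).factorization p ≤ (charDegree (χ' : G → ℂ)).factorization p := by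
  classical
  have hp := hM.1
  haveI : Fact p.Prime := ⟨hp⟩
  by_contra hlt
  push Not at hlt
  have hN0 : Nat.card G ≠ 0 := Nat.card_pos.ne'
  have hNC : (Nat.card G : ℂ) ≠ 0 := by exact_mod_cast hN0
  obtain ⟨j, hj⟩ := IsPGroup.exists_card_eq hD
  have hidx : Nat.card D * D.index = Nat.card G := Subgroup.card_mul_index D
  have hidx0 : D.index ≠ 0 := Subgroup.index_ne_zero_of_finite
  have hac : (Nat.card G).factorization p - (charDegree (χ : G → ℂ)).factorization p = j := by
    rw [hdeg, ← hidx, Nat.factorization_mul (Nat.card_pos.ne') hidx0, hj]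
    simp [hp.factorization_pow]
  obtain ⟨hnorm, -⟩ := central_defect_vanish hM D hD hDZ χ hdeg
  obtain ⟨m, hm⟩ := classInner_pRegular_int hM χ χ'
  rw [hac] at hm
  have hDcard : (Nat.card D : ℂ) = (p : ℂ) ^ j := by rw [hj]; push_cast; rfl
  rw [← hDcard] at hm
  have hDne : (Nat.card D : ℂ) ≠ 0 := by exact_mod_cast (Nat.card_pos (α := D)).ne'
  -- degrees
  obtain ⟨d, hd⟩ : ∃ d : ℕ, d = charDegree (χ : G → ℂ) := ⟨_, rfl⟩
  obtain ⟨d2, hd2⟩ : ∃ d2 : ℕ, d2 = charDegree (χ' : G → ℂ) := ⟨_, rfl⟩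
  obtain ⟨c, hc⟩ : ∃ c : ℕ, c = d.factorization p := ⟨_, rfl⟩
  obtain ⟨c', hc'⟩ : ∃ c' : ℕ, c' = d2.factorization p := ⟨_, rfl⟩
  rw [← hd, ← hc] at hdeg
  rw [← hd, ← hd2, ← hc, ← hc'] at hlt
  have hdpos : d ≠ 0 := by rw [hd]; exact (irr_degree_pos χ).ne'
  have hd2pos : d2 ≠ 0 := by rw [hd2]; exact (irr_degree_pos χ').ne'
  obtain ⟨d', hd', hdd⟩ : ∃ d' : ℕ, ¬ p ∣ d' ∧ d = p ^ c * d' := by
    refine ⟨d / p ^ c, ?_, ?_⟩
    · rw [hc]; exact Nat.not_dvd_ordCompl hp hdpos
    · rw [hc]; exact (Nat.ordProj_mul_ordCompl_eq_self _ p).symm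
  obtain ⟨e', he', hde⟩ : ∃ e' : ℕ, ¬ p ∣ e' ∧ d2 = p ^ c' * e' := by
    refine ⟨d2 / p ^ c', ?_, ?_⟩
    · rw [hc']; exact Nat.not_dvd_ordCompl hp hd2pos
    · rw [hc']; exact (Nat.ordProj_mul_ordCompl_eq_self _ p).symm
  obtain ⟨i', hi', hii⟩ : ∃ i' : ℕ, ¬ p ∣ i' ∧ D.index = p ^ c * i' := by
    refine ⟨D.index / p ^ c, ?_, ?_⟩
    · rw [hdeg]; exact Nat.not_dvd_ordCompl hp hidx0
    · rw [hdeg]; exact (Nat.ordProj_mul_ordCompl_eq_self _ p).symm
  obtain ⟨t, ht⟩ : ∃ t : ℕ, c = c' + 1 + t := ⟨c - c' - 1, by omega⟩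
  have hpC : (p : ℂ) ≠ 0 := by exact_mod_cast hp.ne_zero
  have hnz : ∀ k : ℕ, ¬ p ∣ k → (k : ℂ) ≠ 0 := by
    intro k hk h0
    apply hk
    have : k = 0 := by exact_mod_cast h0
    rw [this]
    exact dvd_zero p
  have hχ1 : (χ : G → ℂ) 1 = (p : ℂ) ^ c * (d' : ℂ) := by
    rw [irr_one_eq_degree, ← hd, hdd]
    push_cast
    rfl
  have hχ'1 : (χ' : G → ℂ) 1 = (p : ℂ) ^ c' * (e' : ℂ) := by
    rw [irr_one_eq_degree, ← hd2, hde]
    push_cast
    rfl
  have hGC : (Nat.card G : ℂ) = (Nat.card D : ℂ) * ((p : ℂ) ^ c * (i' : ℂ)) := by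
    rw [← hidx, hii]
    push_cast
    rfl
  set K : ℂ := (Nat.card D : ℂ) * (χ : G → ℂ) 1 / (Nat.card G : ℂ) with hK
  have hKe : K = (d' : ℂ) * (i' : ℂ)⁻¹ := by
    rw [hK, hχ1, hGC]
    have := hnz i' hi'
    field_simp
  have hKlr : MemLocalRing M K := by
    rw [hKe]
    exact lr_mul hM (lr_natCast hM d') (lr_natCast_inv hM hi')
  set f : G → ℂ := fun g => K * pRegularPart p (fun x => conj ((χ : G → ℂ) x)) g with hf
  have hfcl : ∀ g x : G, f (x * g * x⁻¹) = f g := by
    intro g x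
    simp only [hf]
    rw [pRegularPart_conj (fun g x => by rw [irr_conj])]
  have hflr : ∀ g, MemLocalRing M (f g) := by
    intro g
    simp only [hf]
    apply lr_mul hM hKlr
    by_cases hg : p ∣ orderOf g
    · rw [pRegularPart_of_sing hg]
      exact lr_zero hM
    · rw [pRegularPart_of_reg hg, ← irr_inv]
      exact lr_of_isIntegral hM (irr_isIntegral χ _)
  have hcong := omega_congr hM f hfcl hflr h
  have hconjpart : ∀ g, pRegularPart p (fun x => conj ((χ : G → ℂ) x)) g
      = conj (pRegularPart p (χ : G → ℂ) g) := by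
    intro g
    by_cases hg : p ∣ orderOf g
    · rw [pRegularPart_of_sing hg, pRegularPart_of_sing hg, map_zero]
    · rw [pRegularPart_of_reg hg, pRegularPart_of_reg hg]
  have hsum : ∀ ψ : IrrCharacter G, ∑ g : G, f g * (ψ : G → ℂ) g = K * (Nat.card G : ℂ) *
      conj (classInner (pRegularPart p (χ : G → ℂ)) (ψ : G → ℂ)) := by
    intro ψ
    unfold classInner
    rw [map_mul, map_inv₀, Complex.conj_natCast, map_sum]
    have e : K * (Nat.card G : ℂ) * ((Nat.card G : ℂ)⁻¹ *
        ∑ x : G, conj (pRegularPart p (χ : G → ℂ) x * conj ((ψ : G → ℂ) x)))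
        = K * ∑ x : G, conj (pRegularPart p (χ : G → ℂ) x * conj ((ψ : G → ℂ) x)) := by
      field_simp
    rw [e, Finset.mul_sum]
    apply Finset.sum_congr rfl
    intro g _
    simp only [hf, hconjpart, map_mul, Complex.conj_conj]
    ring
  have h1 : omega f χ = 1 := by
    unfold omega
    rw [hsum χ]
    have hq : classInner (pRegularPart p (χ : G → ℂ)) (χ : G → ℂ) = (Nat.card D : ℂ)⁻¹ :=
      eq_inv_of_mul_eq_one_left hnorm
    rw [hq, map_inv₀, Complex.conj_natCast, hK]
    have := irr_one_ne_zero χ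
    field_simp
  have h2 : omega f χ' = (m : ℂ) * ((χ : G → ℂ) 1 / (χ' : G → ℂ) 1) := by
    unfold omega
    rw [hsum χ']
    have hq : classInner (pRegularPart p (χ : G → ℂ)) (χ' : G → ℂ)
        = (m : ℂ) / (Nat.card D : ℂ) := by
      rw [eq_div_iff hDne]
      exact hm
    rw [hq, map_div₀, map_intCast, Complex.conj_natCast, hK]
    have := irr_one_ne_zero χ'
    field_simp
  have h3 : MemLocalIdeal M ((χ : G → ℂ) 1 / (χ' : G → ℂ) 1) := by
    have e : (χ : G → ℂ) 1 / (χ' : G → ℂ) 1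
        = (p : ℂ) * ((p : ℂ) ^ t * (d' : ℂ) * (e' : ℂ)⁻¹) := by
      rw [hχ1, hχ'1, ht]
      have := hnz e' he'
      field_simp
      ring
    rw [e]
    exact li_mul_lr hM (li_prime hM) (lr_mul hM (lr_mul hM (lr_pow hM (lr_natCast hM p) _)
      (lr_natCast hM d')) (lr_natCast_inv hM he'))
  rw [h1, h2] at hcong
  have h4 := li_add hM hcong (lr_mul_li hM (lr_intCast hM m) h3)
  rw [sub_add_cancel] at h4
  exact not_li_one hM h4

/-- A character with `χ(1)_p = |G : D|_p`, `D` a central `p`-subgroup: `D` is a defect group of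
its block and `χ` vanishes on elements whose `p`-part is outside `D`. -/
theorem central_defect_main [Finite G] (hM : IsPModular p M) (D : Subgroup G)
    (hD : IsPGroup p D) (hDZ : D ≤ Subgroup.center G) (χ : IrrCharacter G)
    (hdeg : (charDegree (χ : G → ℂ)).factorization p = D.index.factorization p) :
    IsDefectGroup p M (blockOf M (χ : G → ℂ)) D ∧
      ∀ g x : G, IsPPart p g x → x ∉ D → (χ : G → ℂ) g = 0 := by
  classical
  haveI := Fintype.ofFinite G
  have hp := hM.1
  haveI : Fact p.Prime := ⟨hp⟩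
  obtain ⟨hnorm, hvan⟩ := central_defect_vanish hM D hD hDZ χ hdeg
  constructor
  · have hB : IsPBlock M (blockOf M (χ : G → ℂ)) := isPBlock_blockOf χ
    obtain ⟨g, hg⟩ := exists_isDefectClass hM hB
    obtain ⟨Q, hQ⟩ := exists_sylow_ge p (Subgroup.centralizer ({g} : Set G)) D hD
      (fun z hz => by
        rw [Subgroup.mem_centralizer_singleton_iff]
        exact ((Subgroup.mem_center_iff.mp (hDZ hz)) g).symm)
    refine ⟨g, hg, Q, ?_⟩
    have hcard := card_defectGroup hM hB
      (D := (Q : Subgroup (Subgroup.centralizer ({g} : Set G))).map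
        (Subgroup.centralizer ({g} : Set G)).subtype) ⟨g, hg, Q, rfl⟩
    apply Subgroup.eq_of_le_of_card_ge hQ
    rw [hcard]
    obtain ⟨j, hj⟩ := IsPGroup.exists_card_eq hD
    rw [hj]
    apply Nat.pow_le_pow_right hp.pos
    have hidx : Nat.card D * D.index = Nat.card G := Subgroup.card_mul_index D
    have hidx0 : D.index ≠ 0 := Subgroup.index_ne_zero_of_finite
    have hac : (Nat.card G).factorization p - (charDegree (χ : G → ℂ)).factorization p = j := by
      rw [hdeg, ← hidx, Nat.factorization_mul (Nat.card_pos.ne') hidx0, hj]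
      simp [hp.factorization_pow]
    have hinf : (charDegree (χ : G → ℂ)).factorization p ≤
        sInf ((fun χ' : IrrCharacter G => (charDegree (χ' : G → ℂ)).factorization p) ''
          blockOf M (χ : G → ℂ)) := by
      apply le_csInf
      · exact ⟨_, χ, self_mem_blockOf hM χ, rfl⟩
      · rintro _ ⟨χ', hχ', rfl⟩
        exact central_defect_degree_le hM D hD hDZ χ hdeg χ' hχ'
    unfold blockDefect
    omega
  · rintro g x ⟨y, hxy, hcomm, ⟨k, hk⟩, hy⟩ hxD
    apply hvan
    intro z hz s hs hgz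
    apply hxD
    have hzc : ∀ t : G, t * z = z * t := Subgroup.mem_center_iff.mp (hDZ hz)
    obtain ⟨j', hj'⟩ := (IsPGroup.iff_orderOf.mp hD) ⟨z, hz⟩
    have hzpow : z ^ p ^ j' = 1 := by
      have := pow_orderOf_eq_one (⟨z, hz⟩ : D)
      rw [hj'] at this
      exact congrArg Subtype.val this
    have hc1 : Commute z⁻¹ x := Commute.inv_left (hzc x).symm
    have hw : (z⁻¹ * x) ^ p ^ (j' + k) = 1 := by
      rw [hc1.mul_pow, inv_pow, pow_add, pow_mul, hzpow, one_pow, inv_one, one_mul,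
        mul_comm (p ^ j'), pow_mul, ← hk, pow_orderOf_eq_one, one_pow]
    have hwy : Commute (z⁻¹ * x) y := (Commute.inv_left (hzc y).symm).mul_left hcomm
    have hws : z⁻¹ * x * y = s := by
      rw [mul_assoc, hxy, hgz, inv_mul_cancel_left]
    have h1 := eq_one_of_ppow_mul_regular hp (z⁻¹ * x) y hwy (j' + k) hw hy
      (by rw [hws]; exact hs)
    have hxz : x = z := by
      have := congrArg (fun t => z * t) h1
      simpa using this
    rw [hxz]
    exact hz

end Cfsg.Agent.Helper2
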