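import Mathlib
import Cfsg.Agent.Helper2.IndNormal
import Cfsg.Agent.Helper2.IndExtra
import Cfsg.Agent.Helper2.CharExtra
import Cfsg.Agent.Helper24.InvConst
import Cfsg.Agent.Helper24.InvAbove
import Cfsg.Agent.Helper7.Clifford
import Cfsg.Agent.Helper7.DetChar
import Cfsg.Agent.Helper25.CharClass
import Cfsg.Agent.Helper25.CharOrth

/-!
# Clifford theory: degrees, stabilizers and induction (helper2)
-/

set_option autoImplicit false

namespace Cfsg.Agent.Helper2

open Cfsg
open scoped ComplexConjugate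

universe u

section Cliff

variable {G : Type u} [Group G]

/-- The stabilizer in `G` of a function on a normal subgroup. -/
def stabChar (N : Subgroup G) [hN : N.Normal] (θ : N → ℂ) : Subgroup G where
  carrier := {x | conjChar N θ x = θ}
  one_mem' := conjChar_one N θ
  mul_mem' := by
    intro a b ha hb
    have ha' : conjChar N θ a = θ := ha
    have hb' : conjChar N θ b = θ := hb
    show conjChar N θ (a * b) = θ
    rw [← conjChar_mul, ha', hb']
  inv_mem' := by
    intro a ha
    have ha' : conjChar N θ a = θ := ha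
    show conjChar N θ a⁻¹ = θ
    have h := conjChar_mul N θ a a⁻¹
    rw [ha', mul_inv_cancel, conjChar_one] at h
    exact h

theorem mem_stabChar (N : Subgroup G) [hN : N.Normal] (θ : N → ℂ) (x : G) :
    x ∈ stabChar N θ ↔ conjChar N θ x = θ := Iff.rfl

theorem le_stabChar (N : Subgroup G) [hN : N.Normal] (θ : N → ℂ) (hθ : IsClassFunction N θ) :
    N ≤ stabChar N θ := fun _ hx => conjChar_of_mem N θ hθ hx

theorem conjChar_one_apply (N : Subgroup G) [hN : N.Normal] (θ : N → ℂ) (x : G) :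
    conjChar N θ x 1 = θ 1 := by
  rw [conjChar_apply]
  congr 1
  apply Subtype.ext
  simp

/-- Orbit–stabilizer for the conjugation action on irreducible characters of a normal subgroup. -/
theorem card_conj_orbit [Fintype G] (N : Subgroup G) [hN : N.Normal] (θ : IrrCharacter N)
    [DecidableEq (IrrCharacter N)] :
    (Finset.univ.image (fun x : G => (⟨conjChar N (θ : N → ℂ) x,
        isIrrCharacter_conjChar N θ.2 x⟩ : IrrCharacter N))).card
      * Nat.card (stabChar N (θ : N → ℂ)) = Fintype.card G := by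
  classical
  obtain ⟨F, hF⟩ : ∃ F : G → IrrCharacter N, F = fun x : G =>
      (⟨conjChar N (θ : N → ℂ) x, isIrrCharacter_conjChar N θ.2 x⟩ : IrrCharacter N) := ⟨_, rfl⟩
  have hFv : ∀ x, (F x : N → ℂ) = conjChar N (θ : N → ℂ) x := by
    intro x
    rw [hF]
  rw [← hF]
  have h := Finset.card_eq_sum_card_fiberwise (s := (Finset.univ : Finset G))
    (t := Finset.univ.image F) (f := F) (fun x _ => Finset.mem_image_of_mem F (Finset.mem_univ x))
  rw [Finset.card_univ] at h
  rw [h]
  have hfib : ∀ ξ ∈ Finset.univ.image F,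
      (Finset.univ.filter (fun x : G => F x = ξ)).card = Nat.card (stabChar N (θ : N → ℂ)) := by
    intro ξ hξ
    obtain ⟨k, -, rfl⟩ := Finset.mem_image.mp hξ
    rw [Nat.card_eq_fintype_card, ← Finset.card_univ]
    symm
    apply Finset.card_bij (fun (t : stabChar N (θ : N → ℂ)) _ => (t : G) * k)
    · intro t _
      rw [Finset.mem_filter]
      refine ⟨Finset.mem_univ _, ?_⟩
      apply Subtype.ext
      rw [hFv, hFv, ← conjChar_mul, (mem_stabChar N _ _).mp t.2]
    · intro t _ t' _ h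
      exact Subtype.ext (mul_right_cancel h)
    · intro x hx
      rw [Finset.mem_filter] at hx
      have h1 : conjChar N (θ : N → ℂ) x = conjChar N (θ : N → ℂ) k := by
        rw [← hFv, ← hFv, hx.2]
      have h2 : x * k⁻¹ ∈ stabChar N (θ : N → ℂ) := by
        rw [mem_stabChar, ← conjChar_mul, h1, conjChar_mul, mul_inv_cancel, conjChar_one]
      exact ⟨⟨x * k⁻¹, h2⟩, Finset.mem_univ _, by simp⟩
  rw [Finset.sum_congr rfl hfib, Finset.sum_const, smul_eq_mul]

/-- Every irreducible character of a subgroup lies under an irreducible character. -/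
theorem exists_irr_above_h2 [Fintype G] (H : Subgroup G) [Fintype H] (θ : IrrCharacter H) :
    ∃ χ : IrrCharacter G, classInner (fun n : H => (χ : G → ℂ) n) (θ : H → ℂ) ≠ 0 := by
  have hind : IsCharacter G (indFun H (θ : H → ℂ)) :=
    isCharacter_indFun H (isCharacter_of_isIrrCharacter θ.2)
  have h1 : indFun H (θ : H → ℂ) 1 ≠ 0 := by
    rw [indFun_one_apply]
    refine mul_ne_zero ?_ (Helper25.irr_one_ne_zero θ)
    exact Nat.cast_ne_zero.mpr (Subgroup.index_ne_zero_of_finite)
  obtain ⟨χ, hχ⟩ := Helper24.exists_constituent hind h1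
  refine ⟨χ, ?_⟩
  rw [frobenius_reciprocity H _ _
    (isClassFunction_of_isCharacter (isCharacter_of_isIrrCharacter χ.2))] at hχ
  rw [classInner_conj_symm (θ : H → ℂ)]
  intro h
  apply hχ
  have := congrArg (starRingEnd ℂ) h
  rw [Complex.conj_conj, map_zero] at this
  exact this

/-- Clifford's theorem, degree form. -/
theorem cliff_degree_stab [Fintype G] (N : Subgroup G) [hN : N.Normal] [Fintype N]
    (χ : IrrCharacter G) (θ : IrrCharacter N) (e : ℕ)
    (he : classInner (fun n : N => (χ : G → ℂ) n) (θ : N → ℂ) = e) (he0 : e ≠ 0) :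
    charDegree (χ : G → ℂ) = e * charDegree (θ : N → ℂ) * (stabChar N (θ : N → ℂ)).index := by
  classical
  have hχN : IsCharacter N (fun n : N => (χ : G → ℂ) n) :=
    isCharacter_restrict N (isCharacter_of_isIrrCharacter χ.2)
  have hdec := classFun_eq_sum_classInner (isClassFunction_of_isCharacter hχN)
  obtain ⟨F, hF⟩ : ∃ F : G → IrrCharacter N, F = fun x : G =>
      (⟨conjChar N (θ : N → ℂ) x, isIrrCharacter_conjChar N θ.2 x⟩ : IrrCharacter N) := ⟨_, rfl⟩
  have hFv : ∀ x, (F x : N → ℂ) = conjChar N (θ : N → ℂ) x := by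
    intro x
    rw [hF]
  have hcard := card_conj_orbit N θ
  rw [← hF] at hcard
  have hinv : ∀ g : G, conjChar N (fun n : N => (χ : G → ℂ) n) g = fun n : N => (χ : G → ℂ) n := by
    intro g
    funext n
    rw [conjChar_apply]
    exact Helper25.irr_conj χ n g
  have hin : ∀ ξ ∈ Finset.univ.image F,
      classInner (fun n : N => (χ : G → ℂ) n) (ξ : N → ℂ) * (ξ : N → ℂ) 1
        = (e : ℂ) * (θ : N → ℂ) 1 := by
    intro ξ hξ
    obtain ⟨k, -, rfl⟩ := Finset.mem_image.mp hξ
    rw [hFv, conjChar_one_apply]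
    congr 1
    rw [← hinv k, classInner_conjChar, he]
  have hout : ∀ ξ : IrrCharacter N, ξ ∉ Finset.univ.image F →
      classInner (fun n : N => (χ : G → ℂ) n) (ξ : N → ℂ) * (ξ : N → ℂ) 1 = 0 := by
    intro ξ hξ
    have h0 : classInner (fun n : N => (χ : G → ℂ) n) (ξ : N → ℂ) = 0 := by
      by_contra hne
      apply hξ
      obtain ⟨g, hg⟩ := Helper24.clifford_conj N (χ : G → ℂ) χ.2 (θ : N → ℂ) θ.2
        (by rw [he]; exact Nat.cast_ne_zero.mpr he0) ξ hne
      exact Finset.mem_image.mpr ⟨g, Finset.mem_univ _, Subtype.ext (by rw [hFv, hg])⟩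
    rw [h0, zero_mul]
  have h1 : (χ : G → ℂ) 1 = ∑ ξ : IrrCharacter N,
      classInner (fun n : N => (χ : G → ℂ) n) (ξ : N → ℂ) * (ξ : N → ℂ) 1 := by
    have := congrFun hdec 1
    simp only [Finset.sum_apply, Pi.smul_apply, smul_eq_mul] at this
    exact this
  rw [← Finset.sum_subset (Finset.subset_univ (Finset.univ.image F)) (fun ξ _ hξ => hout ξ hξ),
    Finset.sum_congr rfl hin, Finset.sum_const, nsmul_eq_mul, Helper25.irr_one_eq_degree χ,
    Helper25.irr_one_eq_degree θ] at h1
  have h2 : (Finset.univ.image F).card = (stabChar N (θ : N → ℂ)).index := by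
    have h3 := (stabChar N (θ : N → ℂ)).index_mul_card
    rw [Nat.card_eq_fintype_card (α := G), ← hcard] at h3
    have hpos : 0 < Nat.card (stabChar N (θ : N → ℂ)) := Nat.card_pos
    exact (Nat.eq_of_mul_eq_mul_right hpos h3).symm
  rw [h2] at h1
  have h4 : (charDegree (χ : G → ℂ) : ℂ)
      = ((e * charDegree (θ : N → ℂ) * (stabChar N (θ : N → ℂ)).index : ℕ) : ℂ) := by
    rw [h1]
    push_cast
    ring
  exact_mod_cast h4

theorem irr_degree_dvd_of_over [Fintype G] (N : Subgroup G) [hN : N.Normal] [Fintype N]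
    (χ : IrrCharacter G) (θ : IrrCharacter N)
    (h : classInner (fun n : N => (χ : G → ℂ) n) (θ : N → ℂ) ≠ 0) :
    charDegree (θ : N → ℂ) ∣ charDegree (χ : G → ℂ) := by
  obtain ⟨e, he⟩ := classInner_char_nat
    (isCharacter_restrict N (isCharacter_of_isIrrCharacter χ.2))
    (isCharacter_of_isIrrCharacter θ.2)
  have he0 : e ≠ 0 := by
    rintro rfl
    apply h
    rw [he, Nat.cast_zero]
  rw [cliff_degree_stab N χ θ e he he0]
  exact ⟨e * (stabChar N (θ : N → ℂ)).index, by ring⟩

/-- Clifford correspondence: an irreducible character of the stabilizer lying over `θ`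
induces irreducibly. -/
theorem exists_irr_of_induced [Fintype G] (N : Subgroup G) [hN : N.Normal] [Fintype N]
    (θ : IrrCharacter N) (T : Subgroup G) [Fintype T] (hT : T = stabChar N (θ : N → ℂ))
    (hNT : N ≤ T) (ψ : IrrCharacter T) (f : ℕ) (hf : f ≠ 0)
    (hres : ∀ n : N, (ψ : T → ℂ) ⟨n, hNT n.2⟩ = (f : ℂ) * (θ : N → ℂ) n) :
    ∃ χ : IrrCharacter G, indFun T (ψ : T → ℂ) = (χ : G → ℂ) ∧
      charDegree (χ : G → ℂ) = T.index * charDegree (ψ : T → ℂ) := by
  classical
  have hind : IsCharacter G (indFun T (ψ : T → ℂ)) :=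
    isCharacter_indFun T (isCharacter_of_isIrrCharacter ψ.2)
  have hind1 : indFun T (ψ : T → ℂ) 1 = (T.index : ℂ) * (ψ : T → ℂ) 1 := indFun_one_apply T _
  have hc : ∀ ζ : IrrCharacter G, ∃ c : ℕ, classInner (indFun T (ψ : T → ℂ)) (ζ : G → ℂ) = c :=
    fun ζ => classInner_char_nat hind (isCharacter_of_isIrrCharacter ζ.2)
  choose c hc using hc
  have hdec : indFun T (ψ : T → ℂ) = ∑ ζ : IrrCharacter G, (c ζ : ℂ) • (ζ : G → ℂ) := by
    conv_lhs => rw [classFun_eq_sum_classInner (isClassFunction_of_isCharacter hind)]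
    exact Finset.sum_congr rfl (fun ζ _ => by rw [hc ζ])
  have hdeg : T.index * charDegree (ψ : T → ℂ)
      = ∑ ζ : IrrCharacter G, c ζ * charDegree (ζ : G → ℂ) := by
    have h1 := congrFun hdec 1
    rw [hind1] at h1
    simp only [Finset.sum_apply, Pi.smul_apply, smul_eq_mul] at h1
    rw [Helper25.irr_one_eq_degree ψ,
      Finset.sum_congr rfl (fun ζ _ => by rw [Helper25.irr_one_eq_degree ζ])] at h1
    exact_mod_cast h1
  have hex : ∃ χ : IrrCharacter G, c χ ≠ 0 := by
    by_contra hno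
    push_neg at hno
    have h1 : T.index * charDegree (ψ : T → ℂ) = 0 := by
      rw [hdeg]
      simp [hno]
    have h2 : T.index ≠ 0 := Subgroup.index_ne_zero_of_finite
    have h3 := Helper25.irr_degree_pos ψ
    rcases Nat.mul_eq_zero.mp h1 with h | h <;> omega
  obtain ⟨χ, hχ⟩ := hex
  have hfr : classInner (fun t : T => (χ : G → ℂ) t) (ψ : T → ℂ) = c χ := by
    have h1 := frobenius_reciprocity T (ψ : T → ℂ) (χ : G → ℂ)
      (isClassFunction_of_isCharacter (isCharacter_of_isIrrCharacter χ.2))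
    rw [hc χ] at h1
    rw [classInner_conj_symm (ψ : T → ℂ), ← h1, Complex.conj_natCast]
  have hχT : IsCharacter T (fun t : T => (χ : G → ℂ) t) :=
    isCharacter_restrict T (isCharacter_of_isIrrCharacter χ.2)
  have ha : ∀ η : IrrCharacter T, ∃ a : ℕ,
      classInner (fun t : T => (χ : G → ℂ) t) (η : T → ℂ) = a :=
    fun η => classInner_char_nat hχT (isCharacter_of_isIrrCharacter η.2)
  choose a ha using ha
  have hdecT : (fun t : T => (χ : G → ℂ) t) = ∑ η : IrrCharacter T, (a η : ℂ) • (η : T → ℂ) := by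
    conv_lhs => rw [classFun_eq_sum_classInner (isClassFunction_of_isCharacter hχT)]
    exact Finset.sum_congr rfl (fun η _ => by rw [ha η])
  have hb : ∀ η : IrrCharacter T, ∃ b : ℕ,
      classInner (fun n : N => (η : T → ℂ) ⟨n, hNT n.2⟩) (θ : N → ℂ) = b :=
    fun η => classInner_char_nat
      (isCharacter_comp (Subgroup.inclusion hNT) (isCharacter_of_isIrrCharacter η.2))
      (isCharacter_of_isIrrCharacter θ.2)
  choose b hb using hb
  have hχN : (fun n : N => (χ : G → ℂ) n)
      = ∑ η : IrrCharacter T, (a η : ℂ) • (fun n : N => (η : T → ℂ) ⟨n, hNT n.2⟩) := by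
    funext n
    have h1 := congrFun hdecT ⟨n, hNT n.2⟩
    simp only [Finset.sum_apply, Pi.smul_apply, smul_eq_mul] at h1 ⊢
    exact h1
  obtain ⟨e, he⟩ := classInner_char_nat
    (isCharacter_restrict N (isCharacter_of_isIrrCharacter χ.2))
    (isCharacter_of_isIrrCharacter θ.2)
  have he2 : e = ∑ η : IrrCharacter T, a η * b η := by
    have h1 := he
    rw [hχN, classInner_sum_left] at h1
    simp only [classInner_smul_left, hb] at h1
    exact_mod_cast h1.symm
  have hbψ : b ψ = f := by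
    have h1 := hb ψ
    have h2 : (fun n : N => (ψ : T → ℂ) ⟨n, hNT n.2⟩) = (f : ℂ) • (θ : N → ℂ) := by
      funext n
      rw [hres n]
      rfl
    rw [h2, classInner_smul_left, classInner_irr_irr, if_pos rfl, mul_one] at h1
    exact_mod_cast h1.symm
  have haψ : a ψ = c χ := by
    have h1 := ha ψ
    rw [hfr] at h1
    exact_mod_cast h1.symm
  have hef : f ≤ e := by
    rw [he2]
    calc f ≤ a ψ * b ψ := by
          rw [hbψ, haψ]
          exact Nat.le_mul_of_pos_left f (Nat.pos_of_ne_zero hχ)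
      _ ≤ ∑ η : IrrCharacter T, a η * b η :=
          Finset.single_le_sum (f := fun η => a η * b η) (fun _ _ => Nat.zero_le _)
            (Finset.mem_univ ψ)
  have he0 : e ≠ 0 := by omega
  have hcl := cliff_degree_stab N χ θ e he he0
  rw [← hT] at hcl
  have hψdeg : charDegree (ψ : T → ℂ) = f * charDegree (θ : N → ℂ) := by
    have h1 := hres 1
    have h2 : (⟨((1 : N) : G), hNT (1 : N).2⟩ : T) = 1 := rfl
    rw [h2, Helper25.irr_one_eq_degree ψ, Helper25.irr_one_eq_degree θ] at h1
    exact_mod_cast h1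
  have hlow : T.index * charDegree (ψ : T → ℂ) ≤ charDegree (χ : G → ℂ) := by
    rw [hcl, hψdeg]
    calc T.index * (f * charDegree (θ : N → ℂ)) = f * charDegree (θ : N → ℂ) * T.index := by ring
      _ ≤ e * charDegree (θ : N → ℂ) * T.index :=
          Nat.mul_le_mul_right _ (Nat.mul_le_mul_right _ hef)
  have hsingle : c χ * charDegree (χ : G → ℂ)
      ≤ ∑ ζ : IrrCharacter G, c ζ * charDegree (ζ : G → ℂ) :=
    Finset.single_le_sum (f := fun ζ => c ζ * charDegree (ζ : G → ℂ)) (fun _ _ => Nat.zero_le _)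
      (Finset.mem_univ χ)
  have hχpos := Helper25.irr_degree_pos χ
  have hc1 : c χ = 1 := by
    by_contra hne
    have h2 : 2 ≤ c χ := by omega
    have h3 : 2 * charDegree (χ : G → ℂ) ≤ c χ * charDegree (χ : G → ℂ) :=
      Nat.mul_le_mul_right _ h2
    omega
  have hdegχ : charDegree (χ : G → ℂ) = T.index * charDegree (ψ : T → ℂ) := by
    rw [hc1, one_mul] at hsingle
    omega
  have hzero : ∀ ζ : IrrCharacter G, ζ ≠ χ → c ζ = 0 := by
    intro ζ hζ
    by_contra hne
    have h1 : ∑ x ∈ ({χ, ζ} : Finset (IrrCharacter G)), c x * charDegree (x : G → ℂ)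
        ≤ ∑ ζ : IrrCharacter G, c ζ * charDegree (ζ : G → ℂ) :=
      Finset.sum_le_sum_of_subset (Finset.subset_univ _)
    rw [Finset.sum_pair (Ne.symm hζ), hc1, one_mul] at h1
    have h2 : 0 < c ζ * charDegree (ζ : G → ℂ) :=
      Nat.mul_pos (Nat.pos_of_ne_zero hne) (Helper25.irr_degree_pos ζ)
    omega
  refine ⟨χ, ?_, hdegχ⟩
  rw [hdec, Finset.sum_eq_single χ (fun ζ _ hζ => by rw [hzero ζ hζ, Nat.cast_zero, zero_smul])
    (fun h => absurd (Finset.mem_univ χ) h), hc1, Nat.cast_one, one_smul]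

/-- A finite group all of whose irreducible characters are linear is abelian. -/
theorem comm_of_all_linear [Finite G]
    (h : ∀ χ : IrrCharacter G, charDegree (χ : G → ℂ) = 1) (a b : G) : a * b = b * a := by
  classical
  haveI := Fintype.ofFinite G
  have h1 := Helper25.sum_irr_degree_sq (G := G)
  have h2 : ∀ χ : IrrCharacter G, (χ : G → ℂ) 1 = 1 := by
    intro χ
    rw [Helper25.irr_one_eq_degree, h χ, Nat.cast_one]
  simp only [h2, mul_one, Finset.sum_const, Finset.card_univ, nsmul_eq_mul] at h1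
  have h3 : Fintype.card (IrrCharacter G) = Nat.card G := by exact_mod_cast h1
  have h4 := Helper25.card_linear_le_index (G := G)
  have h5 : Nat.card {χ : IrrCharacter G // (χ : G → ℂ) 1 = 1} = Nat.card (IrrCharacter G) :=
    Nat.card_congr (Equiv.subtypeUnivEquiv h2)
  rw [h5, Nat.card_eq_fintype_card, h3] at h4
  have h6 := (commutator G).card_mul_index
  have h7 : (commutator G).index ≤ Nat.card G := Nat.le_of_dvd Nat.card_pos
    (Subgroup.index_dvd_card _)
  have h8 : (commutator G).index = Nat.card G := le_antisymm h7 h4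
  rw [h8] at h6
  have h9 : Nat.card (commutator G) = 1 := by
    have hpos : 0 < Nat.card G := Nat.card_pos
    have : Nat.card (commutator G) * Nat.card G = 1 * Nat.card G := by rw [h6, one_mul]
    exact Nat.eq_of_mul_eq_mul_right hpos this
  have h10 : commutator G = ⊥ := Subgroup.card_eq_one.mp h9
  have h11 : a * b * a⁻¹ * b⁻¹ ∈ commutator G := by
    rw [commutator_def]
    exact Subgroup.commutator_mem_commutator (Subgroup.mem_top a) (Subgroup.mem_top b)
  rw [h10, Subgroup.mem_bot] at h11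
  calc a * b = a * b * a⁻¹ * b⁻¹ * (b * a) := by group
    _ = b * a := by rw [h11, one_mul]

end Cliff

section Gallagher

variable {H : Type u} [Group H]

theorem card_hom_of_comm {Q : Type*} [Group Q] [Finite Q] (hab : ∀ a b : Q, a * b = b * a) :
    Nat.card (Q →* ℂˣ) = Nat.card Q := by
  letI : CommGroup Q := { (inferInstance : Group Q) with mul_comm := hab }
  haveI : NeZero (Monoid.exponent Q) := ⟨Monoid.exponent_ne_zero_of_finite⟩
  haveI : NeZero ((Monoid.exponent Q : ℕ) : ℂ) := NeZero.charZero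
  exact CommGroup.card_monoidHom_of_hasEnoughRootsOfUnity Q ℂ

theorem quot_comm_of_comm_mem (K : Subgroup H) [hK : K.Normal]
    (hab : ∀ a b : H, a * b * a⁻¹ * b⁻¹ ∈ K) (x y : H ⧸ K) : x * y = y * x := by
  induction x using QuotientGroup.induction_on with
  | H a =>
    induction y using QuotientGroup.induction_on with
    | H b =>
      rw [← QuotientGroup.mk_mul, ← QuotientGroup.mk_mul, QuotientGroup.eq]
      have h := hab b⁻¹ a⁻¹
      have e : (a * b)⁻¹ * (b * a) = b⁻¹ * a⁻¹ * b⁻¹⁻¹ * a⁻¹⁻¹ := by group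
      rw [e]
      exact h

/-- The linear characters of `H/K` fixing `ψ` under multiplication. -/
def fixHom (K : Subgroup H) [hK : K.Normal] (ψ : H → ℂ) : Subgroup ((H ⧸ K) →* ℂˣ) where
  carrier := {β | ∀ h : H, ((β (QuotientGroup.mk' K h) : ℂˣ) : ℂ) * ψ h = ψ h}
  one_mem' := by
    intro h
    simp
  mul_mem' := by
    intro β β' hβ hβ' h
    have h1 : ∀ h : H, ((β (QuotientGroup.mk' K h) : ℂˣ) : ℂ) * ψ h = ψ h := hβ
    have h2 : ∀ h : H, ((β' (QuotientGroup.mk' K h) : ℂˣ) : ℂ) * ψ h = ψ h := hβ'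
    rw [MonoidHom.mul_apply, Units.val_mul, mul_assoc, h2 h, h1 h]
  inv_mem' := by
    intro β hβ h
    have h1 : ∀ h : H, ((β (QuotientGroup.mk' K h) : ℂˣ) : ℂ) * ψ h = ψ h := hβ
    rw [MonoidHom.inv_apply]
    conv_lhs => rw [← h1 h]
    rw [← mul_assoc, ← Units.val_mul, inv_mul_cancel, Units.val_one, one_mul]

theorem mem_fixHom (K : Subgroup H) [hK : K.Normal] (ψ : H → ℂ) (β : (H ⧸ K) →* ℂˣ) :
    β ∈ fixHom K ψ ↔ ∀ h : H, ((β (QuotientGroup.mk' K h) : ℂˣ) : ℂ) * ψ h = ψ h := Iff.rfl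

/-- Gallagher-type norm formula: the norm of the restriction of `ψ` to `K` counts the linear
characters of the abelian quotient `H/K` fixing `ψ`. -/
theorem gallagher_norm [Fintype H] (K : Subgroup H) [hK : K.Normal] [Fintype K]
    (hab : ∀ a b : H, a * b * a⁻¹ * b⁻¹ ∈ K) (ψ : IrrCharacter H) :
    classInner (fun k : K => (ψ : H → ℂ) k) (fun k : K => (ψ : H → ℂ) k)
      = (Nat.card (fixHom K (ψ : H → ℂ)) : ℂ) := by
  classical
  have habQ := quot_comm_of_comm_mem K hab
  haveI : Finite ((H ⧸ K) →* ℂˣ) := Helper24.finite_hom habQ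
  haveI := Fintype.ofFinite ((H ⧸ K) →* ℂˣ)
  have hcardB : Fintype.card ((H ⧸ K) →* ℂˣ) = K.index := by
    rw [← Nat.card_eq_fintype_card, card_hom_of_comm habQ, Subgroup.index]
  -- each term
  have hterm : ∀ β : (H ⧸ K) →* ℂˣ,
      classInner (ψ : H → ℂ) (fun h => ((β (QuotientGroup.mk' K h) : ℂˣ) : ℂ) * (ψ : H → ℂ) h)
        = if β ∈ fixHom K (ψ : H → ℂ) then 1 else 0 := by
    intro β
    have hirr := Helper7.isIrrCharacter_hom_mul (β.comp (QuotientGroup.mk' K)) (ψ : H → ℂ) ψ.2
    have h1 := classInner_irr_irr ψ ⟨_, hirr⟩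
    refine h1.trans ?_
    by_cases hmem : β ∈ fixHom K (ψ : H → ℂ)
    · rw [if_pos hmem, if_pos]
      apply Subtype.ext
      funext h
      exact ((mem_fixHom K _ β).mp hmem h).symm
    · rw [if_neg hmem, if_neg]
      intro heq
      apply hmem
      rw [mem_fixHom]
      intro h
      have := congrFun (congrArg Subtype.val heq) h
      exact this.symm
  have hsum1 : ∑ β : (H ⧸ K) →* ℂˣ,
      classInner (ψ : H → ℂ) (fun h => ((β (QuotientGroup.mk' K h) : ℂˣ) : ℂ) * (ψ : H → ℂ) h)
        = (Nat.card (fixHom K (ψ : H → ℂ)) : ℂ) := by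
    rw [Finset.sum_congr rfl (fun β _ => hterm β), Finset.sum_boole, Nat.card_eq_fintype_card,
      Fintype.card_subtype]
  rw [← hsum1]
  -- the other evaluation
  have hinner : ∀ h : H, ∑ β : (H ⧸ K) →* ℂˣ, conj (((β (QuotientGroup.mk' K h) : ℂˣ) : ℂ))
      = if h ∈ K then (K.index : ℂ) else 0 := by
    intro h
    by_cases hh : h ∈ K
    · rw [if_pos hh]
      have h1 : QuotientGroup.mk' K h = 1 := (QuotientGroup.eq_one_iff h).mpr hh
      simp only [h1, map_one, Units.val_one, Finset.sum_const, Finset.card_univ, nsmul_eq_mul,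
        mul_one]
      rw [hcardB]
    · rw [if_neg hh]
      have h1 : QuotientGroup.mk' K h ≠ 1 := fun h1 => hh ((QuotientGroup.eq_one_iff h).mp h1)
      have h2 := Helper24.sum_hom_eq_zero habQ h1
      rw [← map_sum, h2, map_zero]
  unfold classInner
  rw [← Finset.mul_sum, Finset.sum_comm]
  have h3 : ∀ h : H, ∑ β : (H ⧸ K) →* ℂˣ, (ψ : H → ℂ) h *
      conj (((β (QuotientGroup.mk' K h) : ℂˣ) : ℂ) * (ψ : H → ℂ) h)
      = if h ∈ K then (K.index : ℂ) * ((ψ : H → ℂ) h * conj ((ψ : H → ℂ) h)) else 0 := by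
    intro h
    have h4 : ∀ β : (H ⧸ K) →* ℂˣ, (ψ : H → ℂ) h *
        conj (((β (QuotientGroup.mk' K h) : ℂˣ) : ℂ) * (ψ : H → ℂ) h)
        = conj (((β (QuotientGroup.mk' K h) : ℂˣ) : ℂ)) *
          ((ψ : H → ℂ) h * conj ((ψ : H → ℂ) h)) := by
      intro β
      rw [map_mul]
      ring
    rw [Finset.sum_congr rfl (fun β _ => h4 β), ← Finset.sum_mul, hinner h]
    split_ifs <;> simp
  rw [Finset.sum_congr rfl (fun h _ => h3 h), ← Finset.sum_filter,
    Finset.sum_subtype (p := fun h => h ∈ K) (Finset.univ.filter (fun h : H => h ∈ K))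
      (fun h => by simp), ← Finset.mul_sum, ← mul_assoc]
  congr 1
  have h5 := K.index_mul_card
  have h6 : (Nat.card H : ℂ) = (K.index : ℂ) * (Nat.card K : ℂ) := by
    rw [← Nat.cast_mul, h5]
  have hK0 : (Nat.card K : ℂ) ≠ 0 := Nat.cast_ne_zero.mpr Nat.card_pos.ne'
  have hi0 : (K.index : ℂ) ≠ 0 := Nat.cast_ne_zero.mpr Subgroup.index_ne_zero_of_finite
  rw [h6]
  field_simp

/-- If `H/K` is an abelian `r`-group and `r ∤ ψ(1)`, no nontrivial linear character of `H/K`
fixes `ψ` under multiplication. -/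
theorem gallagher_free [Fintype H] (K : Subgroup H) [hK : K.Normal] [Fintype K]
    (hab : ∀ a b : H, a * b * a⁻¹ * b⁻¹ ∈ K) (r : ℕ) (hr : r.Prime) (a : ℕ)
    (hidx : K.index = r ^ a) (ψ : IrrCharacter H) (hψ : ¬ r ∣ charDegree (ψ : H → ℂ)) :
    fixHom K (ψ : H → ℂ) = ⊥ := by
  classical
  have habQ := quot_comm_of_comm_mem K hab
  haveI : Finite ((H ⧸ K) →* ℂˣ) := Helper24.finite_hom habQ
  have hψK : IsCharacter K (fun k : K => (ψ : H → ℂ) k) :=
    isCharacter_restrict K (isCharacter_of_isIrrCharacter ψ.2)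
  have h1 : (fun k : K => (ψ : H → ℂ) k) 1 ≠ 0 := Helper25.irr_one_ne_zero ψ
  obtain ⟨θ, hθ⟩ := Helper24.exists_constituent hψK h1
  obtain ⟨e, he⟩ := classInner_char_nat hψK (isCharacter_of_isIrrCharacter θ.2)
  have he0 : e ≠ 0 := by
    rintro rfl
    apply hθ
    rw [he, Nat.cast_zero]
  have hcl := cliff_degree_stab K ψ θ e he he0
  have hle : K ≤ stabChar K (θ : K → ℂ) :=
    le_stabChar K _ (isClassFunction_of_isCharacter (isCharacter_of_isIrrCharacter θ.2))
  have hdvd : (stabChar K (θ : K → ℂ)).index ∣ r ^ a := by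
    rw [← hidx]
    exact Subgroup.index_dvd_of_le hle
  obtain ⟨j, -, hj⟩ := (Nat.dvd_prime_pow hr).mp hdvd
  have hj0 : j = 0 := by
    by_contra hne
    apply hψ
    rw [hcl, hj]
    exact Dvd.dvd.mul_left (dvd_pow_self r hne) _
  rw [hj0, pow_zero] at hj
  have htop : stabChar K (θ : K → ℂ) = ⊤ := Subgroup.index_eq_one.mp hj
  have hinv : ∀ (g : H) (n : K),
      (θ : K → ℂ) ⟨g * n * g⁻¹, hK.conj_mem (n : H) n.2 g⟩ = (θ : K → ℂ) n := by
    intro g n
    have hg : g ∈ stabChar K (θ : K → ℂ) := by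
      rw [htop]
      exact Subgroup.mem_top g
    have := congrFun ((mem_stabChar K _ g).mp hg) n
    rw [conjChar_apply] at this
    exact this
  obtain ⟨e', he'0, hres, he'⟩ :=
    Helper7.clifford_invariant K (θ : K → ℂ) θ.2 hinv (ψ : H → ℂ) ψ.2 hθ
  have hnorm : classInner (fun k : K => (ψ : H → ℂ) k) (fun k : K => (ψ : H → ℂ) k)
      = ((e' * e' : ℕ) : ℂ) := by
    rw [hres, classInner_smul_left, classInner_smul_right, classInner_irr_irr, if_pos rfl]
    simp
  rw [gallagher_norm K hab ψ] at hnorm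
  have hcard : Nat.card (fixHom K (ψ : H → ℂ)) = e' * e' := by exact_mod_cast hnorm
  have hdeg : charDegree (ψ : H → ℂ) = e' * charDegree (θ : K → ℂ) := by
    have h2 := congrFun hres 1
    simp only [Pi.smul_apply, smul_eq_mul] at h2
    rw [OneMemClass.coe_one, Helper25.irr_one_eq_degree ψ, Helper25.irr_one_eq_degree θ] at h2
    exact_mod_cast h2
  have hdvd2 : Nat.card (fixHom K (ψ : H → ℂ)) ∣ r ^ a := by
    have h3 := Subgroup.card_subgroup_dvd_card (fixHom K (ψ : H → ℂ))
    rw [card_hom_of_comm habQ] at h3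
    have h4 : Nat.card (H ⧸ K) = K.index := rfl
    rwa [h4, hidx] at h3
  obtain ⟨i, -, hi⟩ := (Nat.dvd_prime_pow hr).mp hdvd2
  have hi0 : i = 0 := by
    by_contra hne
    apply hψ
    have h3 : r ∣ e' * e' := by
      rw [← hcard, hi]
      exact dvd_pow_self r hne
    have h4 : r ∣ e' := (hr.dvd_mul.mp h3).elim id id
    rw [hdeg]
    exact Dvd.dvd.mul_right h4 _
  rw [hi0, pow_zero] at hi
  exact Subgroup.card_eq_one.mp hi

end Gallagher

end Cfsg.Agent.Helper2
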