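import Mathlib
import Cfsg.Agent.Helper2.ChiefFactor
import Cfsg.Agent.Helper25.CharBasic

/-!
# Clifford degree formula with the stabilizer index (helper2)

* `mem_stabilizer_conjActionFull`: membership in the stabilizer of `θ` for the conjugation action.
* `le_stabilizer_conjActionFull`: `N` stabilizes its own irreducible characters.
* `clifford_degree`: `χ(1) = a · [G : G_θ] · θ(1)` for a constituent `θ` of `χ_N`.
-/

set_option autoImplicit false

namespace Cfsg.Agent.Helper2

open Cfsg Cfsg.Agent.Helper25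
open scoped ComplexConjugate

universe u

variable {G : Type u} [Group G]

theorem mem_stabilizer_conjActionFull (N : Subgroup G) [N.Normal] (θ : IrrCharacter N) (g : G) :
    g ∈ @MulAction.stabilizer G (IrrCharacter N) _ (conjActionFull N) θ
      ↔ conjChar N (θ : N → ℂ) g = (θ : N → ℂ) := by
  letI := conjActionFull N
  constructor
  · intro h
    have h' : g⁻¹ ∈ MulAction.stabilizer G θ := inv_mem h
    rw [MulAction.mem_stabilizer_iff] at h'
    have h2 := congrArg Subtype.val h'
    have e : ((g⁻¹ • θ : IrrCharacter N) : N → ℂ) = conjChar N (θ : N → ℂ) g⁻¹⁻¹ := rfl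
    rw [e, inv_inv] at h2
    exact h2
  · intro h
    have h' : g⁻¹ ∈ MulAction.stabilizer G θ := by
      rw [MulAction.mem_stabilizer_iff]
      apply Subtype.ext
      show conjChar N (θ : N → ℂ) g⁻¹⁻¹ = _
      rw [inv_inv]
      exact h
    simpa using inv_mem h'

theorem le_stabilizer_conjActionFull (N : Subgroup G) [hN : N.Normal] (θ : IrrCharacter N) :
    N ≤ @MulAction.stabilizer G (IrrCharacter N) _ (conjActionFull N) θ := by
  intro n hn
  rw [mem_stabilizer_conjActionFull]
  funext h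
  rw [conjChar_apply]
  exact irr_conj θ h ⟨n, hn⟩

theorem clifford_degree [Fintype G] (N : Subgroup G) [hN : N.Normal] [Fintype N]
    (χ : IrrCharacter G) (θ : IrrCharacter N)
    (hθ : classInner (fun n : N => (χ : G → ℂ) n) (θ : N → ℂ) ≠ 0) :
    ∃ a : ℕ, 0 < a ∧ charDegree (χ : G → ℂ) = a *
      ((@MulAction.stabilizer G (IrrCharacter N) _ (conjActionFull N) θ).index
        * charDegree (θ : N → ℂ)) := by
  classical
  obtain ⟨a, ha, heq⟩ := clifford_orbit N χ θ hθ
  refine ⟨a, ha, ?_⟩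
  have h1 := congrFun heq 1
  rw [Pi.smul_apply, Finset.sum_apply, smul_eq_mul] at h1
  have h2 : ∑ ξ ∈ Finset.univ.filter (fun ξ : IrrCharacter N =>
      ∃ k : G, (ξ : N → ℂ) = conjChar N (θ : N → ℂ) k), (ξ : N → ℂ) 1
      = ((Finset.univ.filter (fun ξ : IrrCharacter N =>
          ∃ k : G, (ξ : N → ℂ) = conjChar N (θ : N → ℂ) k)).card : ℂ) * (θ : N → ℂ) 1 := by
    rw [← nsmul_eq_mul, ← Finset.sum_const]
    apply Finset.sum_congr rfl
    intro ξ hξ
    obtain ⟨k, hk⟩ := (Finset.mem_filter.mp hξ).2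
    rw [hk, conjChar_apply]
    have h1' : (⟨k * ((1 : N) : G) * k⁻¹, hN.conj_mem _ (1 : N).2 k⟩ : N) = 1 :=
      Subtype.ext (by simp)
    rw [h1']
  rw [h2] at h1
  have h3 : (χ : G → ℂ) ((1 : N) : G) = (χ : G → ℂ) 1 := rfl
  rw [h3, irr_one_eq_degree, irr_one_eq_degree] at h1
  have h4 : charDegree (χ : G → ℂ) = a * ((Finset.univ.filter (fun ξ : IrrCharacter N =>
      ∃ k : G, (ξ : N → ℂ) = conjChar N (θ : N → ℂ) k)).card * charDegree (θ : N → ℂ)) := by
    exact_mod_cast h1
  have hcard : (Finset.univ.filter (fun ξ : IrrCharacter N =>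
      ∃ k : G, (ξ : N → ℂ) = conjChar N (θ : N → ℂ) k)).card
      = (@MulAction.stabilizer G (IrrCharacter N) _ (conjActionFull N) θ).index := by
    letI := conjActionFull N
    rw [MulAction.index_stabilizer]
    have hset : MulAction.orbit G θ = ↑(Finset.univ.filter (fun ξ : IrrCharacter N =>
        ∃ k : G, (ξ : N → ℂ) = conjChar N (θ : N → ℂ) k)) := by
      ext ξ
      simp only [Finset.coe_filter, Finset.mem_univ, true_and, Set.mem_ofPred_eq]
      constructor
      · rintro ⟨k, rfl⟩
        exact ⟨k⁻¹, rfl⟩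
      · rintro ⟨k, hk⟩
        refine ⟨k⁻¹, Subtype.ext ?_⟩
        show conjChar N (θ : N → ℂ) k⁻¹⁻¹ = _
        rw [inv_inv, hk]
    rw [hset, Set.ncard_coe_finset]
  rw [h4, hcard]

end Cfsg.Agent.Helper2
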