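import Mathlib
import Cfsg.Agent.Helper25.CharKer
import Cfsg.Agent.Helper25.CharComplete
import Cfsg.Agent.Helper26.BlockQuot
import Cfsg.Agent.Helper2.CharExtra

/-!
# Averaging a character over the cosets of a normal subgroup (helper2)

`cosetAvg N Φ g = |N|⁻¹ ∑_{x ∈ N} Φ (x g)`; for a character `Φ` and normal `N` this is again a
character (the part of `Φ` with `N` in the kernel).
-/

set_option autoImplicit false

namespace Cfsg.Agent.Helper2

open Cfsg Cfsg.Agent.Helper25

variable {G : Type*} [Group G]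

open Classical in
/-- the average of `Φ` over the coset `N g` -/
noncomputable def cosetAvg [Fintype G] (N : Subgroup G) (Φ : G → ℂ) : G → ℂ :=
  fun g => (Nat.card N : ℂ)⁻¹ * ∑ x : G, if x ∈ N then Φ (x * g) else 0

open Classical in
theorem cosetAvg_apply [Fintype G] (N : Subgroup G) (Φ : G → ℂ) (g : G) :
    cosetAvg N Φ g = (Nat.card N : ℂ)⁻¹ * ∑ x : G, if x ∈ N then Φ (x * g) else 0 := rfl

open Classical in
theorem sum_indicator_subgroup [Fintype G] (N : Subgroup G) (c : ℂ) :
    ∑ x : G, (if x ∈ N then c else 0) = (Nat.card N : ℂ) * c := by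
  rw [← Finset.sum_filter, Finset.sum_const, nsmul_eq_mul]
  congr 2
  exact (Nat.subtype_card _ (fun x => by simp)).symm

open Classical in
/-- the sum of an irreducible character over a coset of a normal subgroup not in its kernel
vanishes -/
theorem irr_sum_coset_normal [Fintype G] (ξ : IrrCharacter G) (N : Subgroup G) [N.Normal]
    (h : ¬ N ≤ irrKer ξ) (g : G) :
    ∑ x : G, (if x ∈ N then (ξ : G → ℂ) (x * g) else 0) = 0 := by
  obtain ⟨n, ρ, hρ, hχ, hker⟩ := irr_rep_ker ξ
  have hψ : ∀ g x : G, (if x * g * x⁻¹ ∈ N then (1 : ℂ) else 0) = if g ∈ N then 1 else 0 := by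
    intro g x
    have : x * g * x⁻¹ ∈ N ↔ g ∈ N := by
      constructor
      · intro hx
        have := ‹N.Normal›.conj_mem _ hx x⁻¹
        simpa [mul_assoc] using this
      · intro hg
        exact ‹N.Normal›.conj_mem g hg x
    simp only [this]
  have hs := schur_scalar ρ hρ (fun g => if g ∈ N then (1 : ℂ) else 0) hψ
  have hS : ∑ g : G, (if g ∈ N then (1 : ℂ) else 0) * ρ.character g = 0 := by
    refine Eq.trans (Finset.sum_congr rfl ?_) (Cfsg.Agent.Helper26.irr_sum_normal ξ N h)
    intro g _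
    rw [hχ]
    split_ifs <;> simp
  rw [hS, zero_div, zero_smul] at hs
  have h1 : ∑ x : G, (if x ∈ N then (1 : ℂ) else 0) • ρ (x * g) = 0 := by
    have h2 : ∑ x : G, (if x ∈ N then (1 : ℂ) else 0) • ρ (x * g)
        = (∑ x : G, (if x ∈ N then (1 : ℂ) else 0) • ρ x) * ρ g := by
      rw [Finset.sum_mul]
      apply Finset.sum_congr rfl
      intro x _
      rw [map_mul, smul_mul_assoc]
    rw [h2, hs, zero_mul]
  have h3 := congrArg (LinearMap.trace ℂ (Fin n → ℂ)) h1
  rw [map_sum, map_zero] at h3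
  refine Eq.trans (Finset.sum_congr rfl ?_) h3
  intro x _
  rw [map_smul, smul_eq_mul]
  split_ifs
  · rw [one_mul, ← hχ]
    rfl
  · rw [zero_mul]

theorem irr_mul_of_le_ker [Finite G] (ξ : IrrCharacter G) (N : Subgroup G)
    (h : N ≤ irrKer ξ) {x : G} (hx : x ∈ N) (g : G) :
    (ξ : G → ℂ) (x * g) = (ξ : G → ℂ) g := by
  obtain ⟨n, ρ, hρ, hχ, hker⟩ := irr_rep_ker ξ
  have h1 : ρ x = 1 := (hker x).mp ((mem_irrKer ξ x).mp (h hx))
  rw [← hχ]
  show LinearMap.trace ℂ _ (ρ (x * g)) = LinearMap.trace ℂ _ (ρ g)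
  rw [map_mul, h1, one_mul]

open Classical in
theorem cosetAvg_irr [Fintype G] (ξ : IrrCharacter G) (N : Subgroup G) [N.Normal] :
    cosetAvg N (ξ : G → ℂ) = if N ≤ irrKer ξ then (ξ : G → ℂ) else 0 := by
  funext g
  rw [cosetAvg_apply]
  by_cases h : N ≤ irrKer ξ
  · rw [if_pos h]
    have h1 : ∀ x : G, (if x ∈ N then (ξ : G → ℂ) (x * g) else 0)
        = if x ∈ N then (ξ : G → ℂ) g else 0 := by
      intro x
      by_cases hx : x ∈ N
      · rw [if_pos hx, if_pos hx, irr_mul_of_le_ker ξ N h hx]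
      · rw [if_neg hx, if_neg hx]
    rw [Finset.sum_congr rfl (fun x _ => h1 x), sum_indicator_subgroup, ← mul_assoc,
      inv_mul_cancel₀ (by exact_mod_cast (Nat.card_pos (α := N)).ne'), one_mul]
  · rw [if_neg h, irr_sum_coset_normal ξ N h g, mul_zero]
    rfl

open Classical in
/-- the coset average of a character over a normal subgroup is a character -/
theorem isCharacter_cosetAvg [Fintype G] (N : Subgroup G) [N.Normal] {Φ : G → ℂ}
    (hΦ : IsCharacter G Φ) : IsCharacter G (cosetAvg N Φ) := by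
  choose c hc using fun ξ : IrrCharacter G => classInner_char_nat hΦ (irr_isCharacter ξ)
  have hexp := classFun_eq_sum_classInner (isClassFunction_of_isCharacter hΦ)
  have h1 : cosetAvg N Φ = ∑ ξ : IrrCharacter G,
      ((if N ≤ irrKer ξ then c ξ else 0 : ℕ) : ℂ) • (ξ : G → ℂ) := by
    funext g
    rw [cosetAvg_apply]
    have h2 : ∀ x : G, (if x ∈ N then Φ (x * g) else 0)
        = ∑ ξ : IrrCharacter G, (c ξ : ℂ) * (if x ∈ N then (ξ : G → ℂ) (x * g) else 0) := by
      intro x
      by_cases hx : x ∈ N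
      · simp only [if_pos hx]
        have h3 := congrFun hexp (x * g)
        simp only [Finset.sum_apply, Pi.smul_apply, smul_eq_mul] at h3
        rw [h3]
        exact Finset.sum_congr rfl (fun ξ _ => by rw [hc ξ])
      · simp only [if_neg hx, mul_zero, Finset.sum_const_zero]
    rw [Finset.sum_congr rfl (fun x _ => h2 x), Finset.sum_comm, Finset.mul_sum]
    simp only [Finset.sum_apply, Pi.smul_apply]
    apply Finset.sum_congr rfl
    intro ξ _
    rw [← Finset.mul_sum, mul_left_comm]
    have h4 := congrFun (cosetAvg_irr ξ N) g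
    rw [cosetAvg_apply] at h4
    rw [h4]
    by_cases h : N ≤ irrKer ξ
    · simp [if_pos h]
    · simp [if_neg h]
  rw [h1]
  apply isCharacter_sum
  intro ξ _
  exact isCharacter_nsmul _ (irr_isCharacter ξ)

end Cfsg.Agent.Helper2
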