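import Mathlib

set_option autoImplicit false

namespace Cfsg.Agent.Helper2

variable {G : Type*} [Group G]

theorem sq_of_orderOf_two {u : G} (h : orderOf u = 2) : u * u = 1 := by
  have := pow_orderOf_eq_one u
  rw [h, pow_two] at this
  exact this

theorem inv_of_orderOf_two {u : G} (h : orderOf u = 2) : u⁻¹ = u :=
  inv_eq_of_mul_eq_one_left (sq_of_orderOf_two h)

theorem ne_one_of_orderOf_two {u : G} (h : orderOf u = 2) : u ≠ 1 := by
  intro h1
  rw [h1, orderOf_one] at h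
  omega

theorem orderOf_two_of_sq {u : G} (h : u * u = 1) (h1 : u ≠ 1) : orderOf u = 2 := by
  apply orderOf_eq_prime _ h1
  rw [pow_two, h]

/-- an involution `x` inverts `x * y` when `y` is an involution -/
theorem conj_mul_invol (x y : G) (hx : orderOf x = 2) (hy : orderOf y = 2) :
    x * (x * y) * x⁻¹ = (x * y)⁻¹ := by
  rw [mul_inv_rev, inv_of_orderOf_two hx, inv_of_orderOf_two hy]
  calc x * (x * y) * x = (x * x) * y * x := by simp [mul_assoc]
    _ = y * x := by rw [sq_of_orderOf_two hx, one_mul]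

theorem conj_zpow_invol (x y : G) (hx : orderOf x = 2) (hy : orderOf y = 2) (i : ℤ) :
    x * (x * y) ^ i * x⁻¹ = (x * y) ^ (-i) := by
  rw [← conj_zpow, conj_mul_invol x y hx hy, inv_zpow, zpow_neg]

theorem invol_mul_zpow (x y : G) (hx : orderOf x = 2) (hy : orderOf y = 2) (i : ℤ) :
    x * (x * y) ^ i = (x * y) ^ (-i) * x := by
  rw [← conj_zpow_invol x y hx hy i]
  simp [mul_assoc]

theorem y_eq (x y : G) (hx : orderOf x = 2) (hy : orderOf y = 2) :
    y = (x * y) ^ (-1 : ℤ) * x := by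
  rw [zpow_neg, zpow_one, mul_inv_rev, inv_of_orderOf_two hx, inv_of_orderOf_two hy, mul_assoc,
    sq_of_orderOf_two hx, mul_one]

/-- every element of `⟨x, y⟩` is `r ^ i` or `r ^ i * x` with `r = x * y`. -/
theorem mem_closure_pair (x y : G) (hx : orderOf x = 2) (hy : orderOf y = 2) (d : G)
    (hd : d ∈ Subgroup.closure ({x, y} : Set G)) :
    ∃ i : ℤ, d = (x * y) ^ i ∨ d = (x * y) ^ i * x := by
  induction hd using Subgroup.closure_induction with
  | mem z hz =>
    rcases hz with rfl | hz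
    · exact ⟨0, Or.inr (by simp)⟩
    · rw [Set.mem_singleton_iff] at hz
      subst hz
      exact ⟨-1, Or.inr (y_eq x z hx hy)⟩
  | one => exact ⟨0, Or.inl (by simp)⟩
  | mul a b _ _ ha hb =>
    obtain ⟨i, hi | hi⟩ := ha <;> obtain ⟨j, hj | hj⟩ := hb
    · exact ⟨i + j, Or.inl (by rw [hi, hj, zpow_add])⟩
    · exact ⟨i + j, Or.inr (by rw [hi, hj, zpow_add, mul_assoc])⟩
    · refine ⟨i + -j, Or.inr ?_⟩
      rw [hi, hj, zpow_add, mul_assoc, mul_assoc, invol_mul_zpow x y hx hy j]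
    · refine ⟨i + -j, Or.inl ?_⟩
      rw [hi, hj, zpow_add]
      calc (x * y) ^ i * x * ((x * y) ^ j * x) = (x * y) ^ i * (x * (x * y) ^ j) * x := by
            simp [mul_assoc]
        _ = (x * y) ^ i * ((x * y) ^ (-j) * x) * x := by rw [invol_mul_zpow x y hx hy j]
        _ = (x * y) ^ i * (x * y) ^ (-j) * (x * x) := by simp [mul_assoc]
        _ = (x * y) ^ i * (x * y) ^ (-j) := by rw [sq_of_orderOf_two hx, mul_one]
  | inv a _ ha =>
    obtain ⟨i, hi | hi⟩ := ha
    · exact ⟨-i, Or.inl (by rw [hi, zpow_neg])⟩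
    · refine ⟨i, Or.inr ?_⟩
      rw [hi, mul_inv_rev, inv_of_orderOf_two hx, ← zpow_neg, invol_mul_zpow x y hx hy, neg_neg]

/-- conjugates of `x` inside `⟨x, y⟩` are `r ^ (2 i) * x`. -/
theorem conj_x_of_mem_closure (x y : G) (hx : orderOf x = 2) (hy : orderOf y = 2) (d : G)
    (hd : d ∈ Subgroup.closure ({x, y} : Set G)) :
    ∃ i : ℤ, d * x * d⁻¹ = (x * y) ^ (2 * i) * x := by
  obtain ⟨i, hi | hi⟩ := mem_closure_pair x y hx hy d hd
  · refine ⟨i, ?_⟩
    rw [hi, ← zpow_neg, mul_assoc, invol_mul_zpow x y hx hy, neg_neg, ← mul_assoc, ← zpow_add,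
      two_mul]
  · refine ⟨i, ?_⟩
    rw [hi, mul_inv_rev, inv_of_orderOf_two hx, ← zpow_neg]
    calc (x * y) ^ i * x * x * (x * (x * y) ^ (-i))
        = (x * y) ^ i * (x * x) * (x * (x * y) ^ (-i)) := by simp [mul_assoc]
      _ = (x * y) ^ i * ((x * y) ^ i * x) := by
          rw [sq_of_orderOf_two hx, mul_one, invol_mul_zpow x y hx hy, neg_neg]
      _ = (x * y) ^ (2 * i) * x := by rw [← mul_assoc, ← zpow_add, two_mul]

theorem zpow_conj_x (x y : G) (hx : orderOf x = 2) (hy : orderOf y = 2) (i : ℤ) :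
    (x * y) ^ i * x * ((x * y) ^ i)⁻¹ = (x * y) ^ (2 * i) * x := by
  rw [← zpow_neg, mul_assoc, invol_mul_zpow x y hx hy, neg_neg, ← mul_assoc, ← zpow_add, two_mul]

theorem x_mem_closure_pair (x y : G) : x ∈ Subgroup.closure ({x, y} : Set G) :=
  Subgroup.subset_closure (Set.mem_insert x {y})

theorem y_mem_closure_pair (x y : G) : y ∈ Subgroup.closure ({x, y} : Set G) :=
  Subgroup.subset_closure (Set.mem_insert_of_mem x (Set.mem_singleton y))

theorem xy_zpow_mem_closure_pair (x y : G) (i : ℤ) :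
    (x * y) ^ i ∈ Subgroup.closure ({x, y} : Set G) :=
  Subgroup.zpow_mem _ (Subgroup.mul_mem _ (x_mem_closure_pair x y) (y_mem_closure_pair x y)) i

end Cfsg.Agent.Helper2
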