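import Cfsg.Agent.Helper2.OTFields
import Cfsg.Agent.Helper2.OTTable

namespace Cfsg.Agent.Helper2

/-- ring of group 0. -/
abbrev otR0 : Type := ZMod 1
/-- first action unit of group 0. -/
abbrev otWa0 : otR0 := 0
/-- second action unit of group 0. -/
abbrev otWb0 : otR0 := 0
instance otFa0 : Fact (otWa0 ^ 1 = 1) := ⟨by decide +kernel⟩
instance otFb0 : Fact (otWb0 ^ 2 = 1) := ⟨by decide +kernel⟩
/-- group 0. -/
abbrev otY0 : Type := OtSD 1 2 otR0 otWa0 otWb0
set_option maxRecDepth 100000 in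
theorem otE0 : ∀ x : otY0, x ^ 84 = 1 :=
  otSD_exp 1 2 otR0 otWa0 otWb0 84 (by decide +kernel)
/-- profile of group 0. -/
def otPr0 : Fin 12 → ℕ := ![1, 2, 1, 2, 2, 1, 2, 2, 1, 2, 2, 2]
set_option maxRecDepth 100000 in
theorem otP0 : ∀ j : Fin 12, otFexp 1 2 otR0 otWa0 otWb0 (otDv j) = otPr0 j := by
  decide +kernel
theorem otQ0 (n : ℕ) (j : Fin 12) (hj : Nat.gcd n 84 = otDv j) : otF otY0 n = otPr0 j := by
  rw [otF_gcd otY0 84 otE0 n, hj, otSD_otF, otP0 j]

/-- ring of group 1. -/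
abbrev otR1 : Type := ZMod 1
/-- first action unit of group 1. -/
abbrev otWa1 : otR1 := 0
/-- second action unit of group 1. -/
abbrev otWb1 : otR1 := 0
instance otFa1 : Fact (otWa1 ^ 1 = 1) := ⟨by decide +kernel⟩
instance otFb1 : Fact (otWb1 ^ 3 = 1) := ⟨by decide +kernel⟩
/-- group 1. -/
abbrev otY1 : Type := OtSD 1 3 otR1 otWa1 otWb1
set_option maxRecDepth 100000 in
theorem otE1 : ∀ x : otY1, x ^ 84 = 1 :=
  otSD_exp 1 3 otR1 otWa1 otWb1 84 (by decide +kernel)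
/-- profile of group 1. -/
def otPr1 : Fin 12 → ℕ := ![1, 1, 3, 1, 3, 1, 3, 1, 3, 1, 3, 3]
set_option maxRecDepth 100000 in
theorem otP1 : ∀ j : Fin 12, otFexp 1 3 otR1 otWa1 otWb1 (otDv j) = otPr1 j := by
  decide +kernel
theorem otQ1 (n : ℕ) (j : Fin 12) (hj : Nat.gcd n 84 = otDv j) : otF otY1 n = otPr1 j := by
  rw [otF_gcd otY1 84 otE1 n, hj, otSD_otF, otP1 j]

/-- ring of group 2. -/
abbrev otR2 : Type := ZMod 1
/-- first action unit of group 2. -/
abbrev otWa2 : otR2 := 0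
/-- second action unit of group 2. -/
abbrev otWb2 : otR2 := 0
instance otFa2 : Fact (otWa2 ^ 1 = 1) := ⟨by decide +kernel⟩
instance otFb2 : Fact (otWb2 ^ 4 = 1) := ⟨by decide +kernel⟩
/-- group 2. -/
abbrev otY2 : Type := OtSD 1 4 otR2 otWa2 otWb2
set_option maxRecDepth 100000 in
theorem otE2 : ∀ x : otY2, x ^ 84 = 1 :=
  otSD_exp 1 4 otR2 otWa2 otWb2 84 (by decide +kernel)
/-- profile of group 2. -/
def otPr2 : Fin 12 → ℕ := ![1, 2, 1, 4, 2, 1, 4, 2, 1, 4, 2, 4]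
set_option maxRecDepth 100000 in
theorem otP2 : ∀ j : Fin 12, otFexp 1 4 otR2 otWa2 otWb2 (otDv j) = otPr2 j := by
  decide +kernel
theorem otQ2 (n : ℕ) (j : Fin 12) (hj : Nat.gcd n 84 = otDv j) : otF otY2 n = otPr2 j := by
  rw [otF_gcd otY2 84 otE2 n, hj, otSD_otF, otP2 j]

/-- ring of group 3. -/
abbrev otR3 : Type := ZMod 3
/-- first action unit of group 3. -/
abbrev otWa3 : otR3 := 1
/-- second action unit of group 3. -/
abbrev otWb3 : otR3 := 2
instance otFa3 : Fact (otWa3 ^ 1 = 1) := ⟨by decide +kernel⟩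
instance otFb3 : Fact (otWb3 ^ 2 = 1) := ⟨by decide +kernel⟩
/-- group 3. -/
abbrev otY3 : Type := OtSD 1 2 otR3 otWa3 otWb3
set_option maxRecDepth 100000 in
theorem otE3 : ∀ x : otY3, x ^ 84 = 1 :=
  otSD_exp 1 2 otR3 otWa3 otWb3 84 (by decide +kernel)
/-- profile of group 3. -/
def otPr3 : Fin 12 → ℕ := ![1, 4, 3, 4, 6, 1, 6, 4, 3, 4, 6, 6]
set_option maxRecDepth 100000 in
theorem otP3 : ∀ j : Fin 12, otFexp 1 2 otR3 otWa3 otWb3 (otDv j) = otPr3 j := by
  decide +kernel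
theorem otQ3 (n : ℕ) (j : Fin 12) (hj : Nat.gcd n 84 = otDv j) : otF otY3 n = otPr3 j := by
  rw [otF_gcd otY3 84 otE3 n, hj, otSD_otF, otP3 j]

/-- ring of group 4. -/
abbrev otR4 : Type := ZMod 1
/-- first action unit of group 4. -/
abbrev otWa4 : otR4 := 0
/-- second action unit of group 4. -/
abbrev otWb4 : otR4 := 0
instance otFa4 : Fact (otWa4 ^ 1 = 1) := ⟨by decide +kernel⟩
instance otFb4 : Fact (otWb4 ^ 7 = 1) := ⟨by decide +kernel⟩
/-- group 4. -/
abbrev otY4 : Type := OtSD 1 7 otR4 otWa4 otWb4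
set_option maxRecDepth 100000 in
theorem otE4 : ∀ x : otY4, x ^ 84 = 1 :=
  otSD_exp 1 7 otR4 otWa4 otWb4 84 (by decide +kernel)
/-- profile of group 4. -/
def otPr4 : Fin 12 → ℕ := ![1, 1, 1, 1, 1, 7, 1, 7, 7, 7, 7, 7]
set_option maxRecDepth 100000 in
theorem otP4 : ∀ j : Fin 12, otFexp 1 7 otR4 otWa4 otWb4 (otDv j) = otPr4 j := by
  decide +kernel
theorem otQ4 (n : ℕ) (j : Fin 12) (hj : Nat.gcd n 84 = otDv j) : otF otY4 n = otPr4 j := by
  rw [otF_gcd otY4 84 otE4 n, hj, otSD_otF, otP4 j]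

/-- ring of group 5. -/
abbrev otR5 : Type := ZMod 4
/-- first action unit of group 5. -/
abbrev otWa5 : otR5 := 1
/-- second action unit of group 5. -/
abbrev otWb5 : otR5 := 3
instance otFa5 : Fact (otWa5 ^ 1 = 1) := ⟨by decide +kernel⟩
instance otFb5 : Fact (otWb5 ^ 2 = 1) := ⟨by decide +kernel⟩
/-- group 5. -/
abbrev otY5 : Type := OtSD 1 2 otR5 otWa5 otWb5
set_option maxRecDepth 100000 in
theorem otE5 : ∀ x : otY5, x ^ 84 = 1 :=
  otSD_exp 1 2 otR5 otWa5 otWb5 84 (by decide +kernel)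
/-- profile of group 5. -/
def otPr5 : Fin 12 → ℕ := ![1, 6, 1, 8, 6, 1, 8, 6, 1, 8, 6, 8]
set_option maxRecDepth 100000 in
theorem otP5 : ∀ j : Fin 12, otFexp 1 2 otR5 otWa5 otWb5 (otDv j) = otPr5 j := by
  decide +kernel
theorem otQ5 (n : ℕ) (j : Fin 12) (hj : Nat.gcd n 84 = otDv j) : otF otY5 n = otPr5 j := by
  rw [otF_gcd otY5 84 otE5 n, hj, otSD_otF, otP5 j]

/-- ring of group 6. -/
abbrev otR6 : Type := ZMod 3
/-- first action unit of group 6. -/
abbrev otWa6 : otR6 := 1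
/-- second action unit of group 6. -/
abbrev otWb6 : otR6 := 2
instance otFa6 : Fact (otWa6 ^ 1 = 1) := ⟨by decide +kernel⟩
instance otFb6 : Fact (otWb6 ^ 4 = 1) := ⟨by decide +kernel⟩
/-- group 6. -/
abbrev otY6 : Type := OtSD 1 4 otR6 otWa6 otWb6
set_option maxRecDepth 100000 in
theorem otE6 : ∀ x : otY6, x ^ 84 = 1 :=
  otSD_exp 1 4 otR6 otWa6 otWb6 84 (by decide +kernel)
/-- profile of group 6. -/
def otPr6 : Fin 12 → ℕ := ![1, 2, 3, 8, 6, 1, 12, 2, 3, 8, 6, 12]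
set_option maxRecDepth 100000 in
theorem otP6 : ∀ j : Fin 12, otFexp 1 4 otR6 otWa6 otWb6 (otDv j) = otPr6 j := by
  decide +kernel
theorem otQ6 (n : ℕ) (j : Fin 12) (hj : Nat.gcd n 84 = otDv j) : otF otY6 n = otPr6 j := by
  rw [otF_gcd otY6 84 otE6 n, hj, otSD_otF, otP6 j]

/-- ring of group 7. -/
abbrev otR7 : Type := ZMod 7
/-- first action unit of group 7. -/
abbrev otWa7 : otR7 := 1
/-- second action unit of group 7. -/
abbrev otWb7 : otR7 := 6
instance otFa7 : Fact (otWa7 ^ 1 = 1) := ⟨by decide +kernel⟩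
instance otFb7 : Fact (otWb7 ^ 2 = 1) := ⟨by decide +kernel⟩
/-- group 7. -/
abbrev otY7 : Type := OtSD 1 2 otR7 otWa7 otWb7
set_option maxRecDepth 100000 in
theorem otE7 : ∀ x : otY7, x ^ 84 = 1 :=
  otSD_exp 1 2 otR7 otWa7 otWb7 84 (by decide +kernel)
/-- profile of group 7. -/
def otPr7 : Fin 12 → ℕ := ![1, 8, 1, 8, 8, 7, 8, 14, 7, 14, 14, 14]
set_option maxRecDepth 100000 in
theorem otP7 : ∀ j : Fin 12, otFexp 1 2 otR7 otWa7 otWb7 (otDv j) = otPr7 j := by
  decide +kernel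
theorem otQ7 (n : ℕ) (j : Fin 12) (hj : Nat.gcd n 84 = otDv j) : otF otY7 n = otPr7 j := by
  rw [otF_gcd otY7 84 otE7 n, hj, otSD_otF, otP7 j]

/-- ring of group 8. -/
abbrev otR8 : Type := ZMod 3 × ZMod 3
/-- first action unit of group 8. -/
abbrev otWa8 : otR8 := (1, 1)
/-- second action unit of group 8. -/
abbrev otWb8 : otR8 := (2, 2)
instance otFa8 : Fact (otWa8 ^ 1 = 1) := ⟨by decide +kernel⟩
instance otFb8 : Fact (otWb8 ^ 2 = 1) := ⟨by decide +kernel⟩
/-- group 8. -/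
abbrev otY8 : Type := OtSD 1 2 otR8 otWa8 otWb8
set_option maxRecDepth 100000 in
theorem otE8 : ∀ x : otY8, x ^ 84 = 1 :=
  otSD_exp 1 2 otR8 otWa8 otWb8 84 (by decide +kernel)
/-- profile of group 8. -/
def otPr8 : Fin 12 → ℕ := ![1, 10, 9, 10, 18, 1, 18, 10, 9, 10, 18, 18]
set_option maxRecDepth 100000 in
theorem otP8 : ∀ j : Fin 12, otFexp 1 2 otR8 otWa8 otWb8 (otDv j) = otPr8 j := by
  decide +kernel
theorem otQ8 (n : ℕ) (j : Fin 12) (hj : Nat.gcd n 84 = otDv j) : otF otY8 n = otPr8 j := by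
  rw [otF_gcd otY8 84 otE8 n, hj, otSD_otF, otP8 j]

/-- ring of group 9. -/
abbrev otR9 : Type := ZMod 7
/-- first action unit of group 9. -/
abbrev otWa9 : otR9 := 1
/-- second action unit of group 9. -/
abbrev otWb9 : otR9 := 2
instance otFa9 : Fact (otWa9 ^ 1 = 1) := ⟨by decide +kernel⟩
instance otFb9 : Fact (otWb9 ^ 3 = 1) := ⟨by decide +kernel⟩
/-- group 9. -/
abbrev otY9 : Type := OtSD 1 3 otR9 otWa9 otWb9
set_option maxRecDepth 100000 in
theorem otE9 : ∀ x : otY9, x ^ 84 = 1 :=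
  otSD_exp 1 3 otR9 otWa9 otWb9 84 (by decide +kernel)
/-- profile of group 9. -/
def otPr9 : Fin 12 → ℕ := ![1, 1, 15, 1, 15, 7, 15, 7, 21, 7, 21, 21]
set_option maxRecDepth 100000 in
theorem otP9 : ∀ j : Fin 12, otFexp 1 3 otR9 otWa9 otWb9 (otDv j) = otPr9 j := by
  decide +kernel
theorem otQ9 (n : ℕ) (j : Fin 12) (hj : Nat.gcd n 84 = otDv j) : otF otY9 n = otPr9 j := by
  rw [otF_gcd otY9 84 otE9 n, hj, otSD_otF, otP9 j]

/-- ring of group 10. -/
abbrev otR10 : Type := ZMod 3 × ZMod 4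
/-- first action unit of group 10. -/
abbrev otWa10 : otR10 := (1, 1)
/-- second action unit of group 10. -/
abbrev otWb10 : otR10 := (2, 3)
instance otFa10 : Fact (otWa10 ^ 1 = 1) := ⟨by decide +kernel⟩
instance otFb10 : Fact (otWb10 ^ 2 = 1) := ⟨by decide +kernel⟩
/-- group 10. -/
abbrev otY10 : Type := OtSD 1 2 otR10 otWa10 otWb10
set_option maxRecDepth 100000 in
theorem otE10 : ∀ x : otY10, x ^ 84 = 1 :=
  otSD_exp 1 2 otR10 otWa10 otWb10 84 (by decide +kernel)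
/-- profile of group 10. -/
def otPr10 : Fin 12 → ℕ := ![1, 14, 3, 16, 18, 1, 24, 14, 3, 16, 18, 24]
set_option maxRecDepth 100000 in
theorem otP10 : ∀ j : Fin 12, otFexp 1 2 otR10 otWa10 otWb10 (otDv j) = otPr10 j := by
  decide +kernel
theorem otQ10 (n : ℕ) (j : Fin 12) (hj : Nat.gcd n 84 = otDv j) : otF otY10 n = otPr10 j := by
  rw [otF_gcd otY10 84 otE10 n, hj, otSD_otF, otP10 j]

/-- ring of group 11. -/
abbrev otR11 : Type := ZMod 7
/-- first action unit of group 11. -/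
abbrev otWa11 : otR11 := 1
/-- second action unit of group 11. -/
abbrev otWb11 : otR11 := 6
instance otFa11 : Fact (otWa11 ^ 1 = 1) := ⟨by decide +kernel⟩
instance otFb11 : Fact (otWb11 ^ 4 = 1) := ⟨by decide +kernel⟩
/-- group 11. -/
abbrev otY11 : Type := OtSD 1 4 otR11 otWa11 otWb11
set_option maxRecDepth 100000 in
theorem otE11 : ∀ x : otY11, x ^ 84 = 1 :=
  otSD_exp 1 4 otR11 otWa11 otWb11 84 (by decide +kernel)
/-- profile of group 11. -/
def otPr11 : Fin 12 → ℕ := ![1, 2, 1, 16, 2, 7, 16, 14, 7, 28, 14, 28]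
set_option maxRecDepth 100000 in
theorem otP11 : ∀ j : Fin 12, otFexp 1 4 otR11 otWa11 otWb11 (otDv j) = otPr11 j := by
  decide +kernel
theorem otQ11 (n : ℕ) (j : Fin 12) (hj : Nat.gcd n 84 = otDv j) : otF otY11 n = otPr11 j := by
  rw [otF_gcd otY11 84 otE11 n, hj, otSD_otF, otP11 j]

/-- ring of group 12. -/
abbrev otR12 : Type := ZMod 3 × ZMod 3
/-- first action unit of group 12. -/
abbrev otWa12 : otR12 := (1, 1)
/-- second action unit of group 12. -/
abbrev otWb12 : otR12 := (2, 2)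
instance otFa12 : Fact (otWa12 ^ 1 = 1) := ⟨by decide +kernel⟩
instance otFb12 : Fact (otWb12 ^ 4 = 1) := ⟨by decide +kernel⟩
/-- group 12. -/
abbrev otY12 : Type := OtSD 1 4 otR12 otWa12 otWb12
set_option maxRecDepth 100000 in
theorem otE12 : ∀ x : otY12, x ^ 84 = 1 :=
  otSD_exp 1 4 otR12 otWa12 otWb12 84 (by decide +kernel)
/-- profile of group 12. -/
def otPr12 : Fin 12 → ℕ := ![1, 2, 9, 20, 18, 1, 36, 2, 9, 20, 18, 36]
set_option maxRecDepth 100000 in
theorem otP12 : ∀ j : Fin 12, otFexp 1 4 otR12 otWa12 otWb12 (otDv j) = otPr12 j := by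
  decide +kernel
theorem otQ12 (n : ℕ) (j : Fin 12) (hj : Nat.gcd n 84 = otDv j) : otF otY12 n = otPr12 j := by
  rw [otF_gcd otY12 84 otE12 n, hj, otSD_otF, otP12 j]

/-- ring of group 13. -/
abbrev otR13 : Type := ZMod 7
/-- first action unit of group 13. -/
abbrev otWa13 : otR13 := 1
/-- second action unit of group 13. -/
abbrev otWb13 : otR13 := 3
instance otFa13 : Fact (otWa13 ^ 1 = 1) := ⟨by decide +kernel⟩
instance otFb13 : Fact (otWb13 ^ 6 = 1) := ⟨by decide +kernel⟩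
/-- group 13. -/
abbrev otY13 : Type := OtSD 1 6 otR13 otWa13 otWb13
set_option maxRecDepth 100000 in
theorem otE13 : ∀ x : otY13, x ^ 84 = 1 :=
  otSD_exp 1 6 otR13 otWa13 otWb13 84 (by decide +kernel)
/-- profile of group 13. -/
def otPr13 : Fin 12 → ℕ := ![1, 8, 15, 8, 36, 7, 36, 14, 21, 14, 42, 42]
set_option maxRecDepth 100000 in
theorem otP13 : ∀ j : Fin 12, otFexp 1 6 otR13 otWa13 otWb13 (otDv j) = otPr13 j := by
  decide +kernel
theorem otQ13 (n : ℕ) (j : Fin 12) (hj : Nat.gcd n 84 = otDv j) : otF otY13 n = otPr13 j := by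
  rw [otF_gcd otY13 84 otE13 n, hj, otSD_otF, otP13 j]

/-- ring of group 14. -/
abbrev otR14 : Type := ZMod 3 × ZMod 7
/-- first action unit of group 14. -/
abbrev otWa14 : otR14 := (1, 1)
/-- second action unit of group 14. -/
abbrev otWb14 : otR14 := (2, 6)
instance otFa14 : Fact (otWa14 ^ 1 = 1) := ⟨by decide +kernel⟩
instance otFb14 : Fact (otWb14 ^ 2 = 1) := ⟨by decide +kernel⟩
/-- group 14. -/
abbrev otY14 : Type := OtSD 1 2 otR14 otWa14 otWb14
set_option maxRecDepth 100000 in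
theorem otE14 : ∀ x : otY14, x ^ 84 = 1 :=
  otSD_exp 1 2 otR14 otWa14 otWb14 84 (by decide +kernel)
/-- profile of group 14. -/
def otPr14 : Fin 12 → ℕ := ![1, 22, 3, 22, 24, 7, 24, 28, 21, 28, 42, 42]
set_option maxRecDepth 100000 in
theorem otP14 : ∀ j : Fin 12, otFexp 1 2 otR14 otWa14 otWb14 (otDv j) = otPr14 j := by
  decide +kernel
theorem otQ14 (n : ℕ) (j : Fin 12) (hj : Nat.gcd n 84 = otDv j) : otF otY14 n = otPr14 j := by
  rw [otF_gcd otY14 84 otE14 n, hj, otSD_otF, otP14 j]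

/-- ring of group 15. -/
abbrev otR15 : Type := ZMod 3 × ZMod 3 × ZMod 3
/-- first action unit of group 15. -/
abbrev otWa15 : otR15 := (1, 1, 1)
/-- second action unit of group 15. -/
abbrev otWb15 : otR15 := (2, 2, 2)
instance otFa15 : Fact (otWa15 ^ 1 = 1) := ⟨by decide +kernel⟩
instance otFb15 : Fact (otWb15 ^ 2 = 1) := ⟨by decide +kernel⟩
/-- group 15. -/
abbrev otY15 : Type := OtSD 1 2 otR15 otWa15 otWb15
set_option maxRecDepth 100000 in
theorem otE15 : ∀ x : otY15, x ^ 84 = 1 :=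
  otSD_exp 1 2 otR15 otWa15 otWb15 84 (by decide +kernel)
/-- profile of group 15. -/
def otPr15 : Fin 12 → ℕ := ![1, 28, 27, 28, 54, 1, 54, 28, 27, 28, 54, 54]
set_option maxRecDepth 100000 in
theorem otP15 : ∀ j : Fin 12, otFexp 1 2 otR15 otWa15 otWb15 (otDv j) = otPr15 j := by
  decide +kernel
theorem otQ15 (n : ℕ) (j : Fin 12) (hj : Nat.gcd n 84 = otDv j) : otF otY15 n = otPr15 j := by
  rw [otF_gcd otY15 84 otE15 n, hj, otSD_otF, otP15 j]

/-- ring of group 16. -/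
abbrev otR16 : Type := ZMod 7 × ZMod 4
/-- first action unit of group 16. -/
abbrev otWa16 : otR16 := (1, 1)
/-- second action unit of group 16. -/
abbrev otWb16 : otR16 := (6, 3)
instance otFa16 : Fact (otWa16 ^ 1 = 1) := ⟨by decide +kernel⟩
instance otFb16 : Fact (otWb16 ^ 2 = 1) := ⟨by decide +kernel⟩
/-- group 16. -/
abbrev otY16 : Type := OtSD 1 2 otR16 otWa16 otWb16
set_option maxRecDepth 100000 in
theorem otE16 : ∀ x : otY16, x ^ 84 = 1 :=
  otSD_exp 1 2 otR16 otWa16 otWb16 84 (by decide +kernel)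
/-- profile of group 16. -/
def otPr16 : Fin 12 → ℕ := ![1, 30, 1, 32, 30, 7, 32, 42, 7, 56, 42, 56]
set_option maxRecDepth 100000 in
theorem otP16 : ∀ j : Fin 12, otFexp 1 2 otR16 otWa16 otWb16 (otDv j) = otPr16 j := by
  decide +kernel
theorem otQ16 (n : ℕ) (j : Fin 12) (hj : Nat.gcd n 84 = otDv j) : otF otY16 n = otPr16 j := by
  rw [otF_gcd otY16 84 otE16 n, hj, otSD_otF, otP16 j]

/-- ring of group 17. -/
abbrev otR17 : Type := ZMod 3 × ZMod 7
/-- first action unit of group 17. -/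
abbrev otWa17 : otR17 := (1, 1)
/-- second action unit of group 17. -/
abbrev otWb17 : otR17 := (2, 6)
instance otFa17 : Fact (otWa17 ^ 1 = 1) := ⟨by decide +kernel⟩
instance otFb17 : Fact (otWb17 ^ 4 = 1) := ⟨by decide +kernel⟩
/-- group 17. -/
abbrev otY17 : Type := OtSD 1 4 otR17 otWa17 otWb17
set_option maxRecDepth 100000 in
theorem otE17 : ∀ x : otY17, x ^ 84 = 1 :=
  otSD_exp 1 4 otR17 otWa17 otWb17 84 (by decide +kernel)
/-- profile of group 17. -/
def otPr17 : Fin 12 → ℕ := ![1, 2, 3, 44, 6, 7, 48, 14, 21, 56, 42, 84]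
set_option maxRecDepth 100000 in
theorem otP17 : ∀ j : Fin 12, otFexp 1 4 otR17 otWa17 otWb17 (otDv j) = otPr17 j := by
  decide +kernel
theorem otQ17 (n : ℕ) (j : Fin 12) (hj : Nat.gcd n 84 = otDv j) : otF otY17 n = otPr17 j := by
  rw [otF_gcd otY17 84 otE17 n, hj, otSD_otF, otP17 j]

/-- ring of group 18. -/
abbrev otR18 : Type := ZMod 7 × ZMod 7
/-- first action unit of group 18. -/
abbrev otWa18 : otR18 := (1, 1)
/-- second action unit of group 18. -/
abbrev otWb18 : otR18 := (6, 6)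
instance otFa18 : Fact (otWa18 ^ 1 = 1) := ⟨by decide +kernel⟩
instance otFb18 : Fact (otWb18 ^ 2 = 1) := ⟨by decide +kernel⟩
/-- group 18. -/
abbrev otY18 : Type := OtSD 1 2 otR18 otWa18 otWb18
set_option maxRecDepth 100000 in
theorem otE18 : ∀ x : otY18, x ^ 84 = 1 :=
  otSD_exp 1 2 otR18 otWa18 otWb18 84 (by decide +kernel)
/-- profile of group 18. -/
def otPr18 : Fin 12 → ℕ := ![1, 50, 1, 50, 50, 49, 50, 98, 49, 98, 98, 98]
set_option maxRecDepth 100000 in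
theorem otP18 : ∀ j : Fin 12, otFexp 1 2 otR18 otWa18 otWb18 (otDv j) = otPr18 j := by
  decide +kernel
theorem otQ18 (n : ℕ) (j : Fin 12) (hj : Nat.gcd n 84 = otDv j) : otF otY18 n = otPr18 j := by
  rw [otF_gcd otY18 84 otE18 n, hj, otSD_otF, otP18 j]

/-- ring of group 19. -/
abbrev otR19 : Type := ZMod 3 × ZMod 3 × ZMod 3
/-- first action unit of group 19. -/
abbrev otWa19 : otR19 := (1, 1, 1)
/-- second action unit of group 19. -/
abbrev otWb19 : otR19 := (2, 2, 2)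
instance otFa19 : Fact (otWa19 ^ 1 = 1) := ⟨by decide +kernel⟩
instance otFb19 : Fact (otWb19 ^ 4 = 1) := ⟨by decide +kernel⟩
/-- group 19. -/
abbrev otY19 : Type := OtSD 1 4 otR19 otWa19 otWb19
set_option maxRecDepth 100000 in
theorem otE19 : ∀ x : otY19, x ^ 84 = 1 :=
  otSD_exp 1 4 otR19 otWa19 otWb19 84 (by decide +kernel)
/-- profile of group 19. -/
def otPr19 : Fin 12 → ℕ := ![1, 2, 27, 56, 54, 1, 108, 2, 27, 56, 54, 108]
set_option maxRecDepth 100000 in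
theorem otP19 : ∀ j : Fin 12, otFexp 1 4 otR19 otWa19 otWb19 (otDv j) = otPr19 j := by
  decide +kernel
theorem otQ19 (n : ℕ) (j : Fin 12) (hj : Nat.gcd n 84 = otDv j) : otF otY19 n = otPr19 j := by
  rw [otF_gcd otY19 84 otE19 n, hj, otSD_otF, otP19 j]

/-- ring of group 20. -/
abbrev otR20 : Type := ZMod 3 × ZMod 3 × ZMod 7
/-- first action unit of group 20. -/
abbrev otWa20 : otR20 := (1, 1, 1)
/-- second action unit of group 20. -/
abbrev otWb20 : otR20 := (2, 2, 6)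
instance otFa20 : Fact (otWa20 ^ 1 = 1) := ⟨by decide +kernel⟩
instance otFb20 : Fact (otWb20 ^ 2 = 1) := ⟨by decide +kernel⟩
/-- group 20. -/
abbrev otY20 : Type := OtSD 1 2 otR20 otWa20 otWb20
set_option maxRecDepth 100000 in
theorem otE20 : ∀ x : otY20, x ^ 84 = 1 :=
  otSD_exp 1 2 otR20 otWa20 otWb20 84 (by decide +kernel)
/-- profile of group 20. -/
def otPr20 : Fin 12 → ℕ := ![1, 64, 9, 64, 72, 7, 72, 70, 63, 70, 126, 126]
set_option maxRecDepth 100000 in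
theorem otP20 : ∀ j : Fin 12, otFexp 1 2 otR20 otWa20 otWb20 (otDv j) = otPr20 j := by
  decide +kernel
theorem otQ20 (n : ℕ) (j : Fin 12) (hj : Nat.gcd n 84 = otDv j) : otF otY20 n = otPr20 j := by
  rw [otF_gcd otY20 84 otE20 n, hj, otSD_otF, otP20 j]

/-- ring of group 21. -/
abbrev otR21 : Type := ZMod 3 × ZMod 3 × ZMod 7
/-- first action unit of group 21. -/
abbrev otWa21 : otR21 := (1, 1, 1)
/-- second action unit of group 21. -/
abbrev otWb21 : otR21 := (2, 2, 6)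
instance otFa21 : Fact (otWa21 ^ 1 = 1) := ⟨by decide +kernel⟩
instance otFb21 : Fact (otWb21 ^ 4 = 1) := ⟨by decide +kernel⟩
/-- group 21. -/
abbrev otY21 : Type := OtSD 1 4 otR21 otWa21 otWb21
set_option maxRecDepth 100000 in
theorem otE21 : ∀ x : otY21, x ^ 84 = 1 :=
  otSD_exp 1 4 otR21 otWa21 otWb21 84 (by decide +kernel)
/-- profile of group 21. -/
def otPr21 : Fin 12 → ℕ := ![1, 2, 9, 128, 18, 7, 144, 14, 63, 140, 126, 252]
set_option maxRecDepth 100000 in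
theorem otP21 : ∀ j : Fin 12, otFexp 1 4 otR21 otWa21 otWb21 (otDv j) = otPr21 j := by
  decide +kernel
theorem otQ21 (n : ℕ) (j : Fin 12) (hj : Nat.gcd n 84 = otDv j) : otF otY21 n = otPr21 j := by
  rw [otF_gcd otY21 84 otE21 n, hj, otSD_otF, otP21 j]

/-- ring of group 22. -/
abbrev otR22 : Type := ZMod 7 × ZMod 7
/-- first action unit of group 22. -/
abbrev otWa22 : otR22 := (1, 1)
/-- second action unit of group 22. -/
abbrev otWb22 : otR22 := (6, 3)
instance otFa22 : Fact (otWa22 ^ 1 = 1) := ⟨by decide +kernel⟩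
instance otFb22 : Fact (otWb22 ^ 6 = 1) := ⟨by decide +kernel⟩
/-- group 22. -/
abbrev otY22 : Type := OtSD 1 6 otR22 otWa22 otWb22
set_option maxRecDepth 100000 in
theorem otE22 : ∀ x : otY22, x ^ 84 = 1 :=
  otSD_exp 1 6 otR22 otWa22 otWb22 84 (by decide +kernel)
/-- profile of group 22. -/
def otPr22 : Fin 12 → ℕ := ![1, 50, 15, 50, 162, 49, 162, 98, 147, 98, 294, 294]
set_option maxRecDepth 100000 in
theorem otP22 : ∀ j : Fin 12, otFexp 1 6 otR22 otWa22 otWb22 (otDv j) = otPr22 j := by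
  decide +kernel
theorem otQ22 (n : ℕ) (j : Fin 12) (hj : Nat.gcd n 84 = otDv j) : otF otY22 n = otPr22 j := by
  rw [otF_gcd otY22 84 otE22 n, hj, otSD_otF, otP22 j]

/-- ring of group 23. -/
abbrev otR23 : Type := ZMod 7 × ZMod 7
/-- first action unit of group 23. -/
abbrev otWa23 : otR23 := (1, 1)
/-- second action unit of group 23. -/
abbrev otWb23 : otR23 := (6, 3)
instance otFa23 : Fact (otWa23 ^ 1 = 1) := ⟨by decide +kernel⟩
instance otFb23 : Fact (otWb23 ^ 12 = 1) := ⟨by decide +kernel⟩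
/-- group 23. -/
abbrev otY23 : Type := OtSD 1 12 otR23 otWa23 otWb23
set_option maxRecDepth 100000 in
theorem otE23 : ∀ x : otY23, x ^ 84 = 1 :=
  otSD_exp 1 12 otR23 otWa23 otWb23 84 (by decide +kernel)
/-- profile of group 23. -/
def otPr23 : Fin 12 → ℕ := ![1, 2, 15, 100, 30, 49, 324, 98, 147, 196, 294, 588]
set_option maxRecDepth 100000 in
theorem otP23 : ∀ j : Fin 12, otFexp 1 12 otR23 otWa23 otWb23 (otDv j) = otPr23 j := by
  decide +kernel
theorem otQ23 (n : ℕ) (j : Fin 12) (hj : Nat.gcd n 84 = otDv j) : otF otY23 n = otPr23 j := by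
  rw [otF_gcd otY23 84 otE23 n, hj, otSD_otF, otP23 j]

/-- ring of group 24. -/
abbrev otR24 : Type := ZMod 7 × ZMod 7 × ZMod 7
/-- first action unit of group 24. -/
abbrev otWa24 : otR24 := (1, 1, 1)
/-- second action unit of group 24. -/
abbrev otWb24 : otR24 := (6, 6, 3)
instance otFa24 : Fact (otWa24 ^ 1 = 1) := ⟨by decide +kernel⟩
instance otFb24 : Fact (otWb24 ^ 6 = 1) := ⟨by decide +kernel⟩
/-- group 24. -/
abbrev otY24 : Type := OtSD 1 6 otR24 otWa24 otWb24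
set_option maxRecDepth 100000 in
theorem otE24 : ∀ x : otY24, x ^ 84 = 1 :=
  otSD_exp 1 6 otR24 otWa24 otWb24 84 (by decide +kernel)
/-- profile of group 24. -/
def otPr24 : Fin 12 → ℕ := ![1, 344, 15, 344, 1044, 343, 1044, 686, 1029, 686, 2058, 2058]
set_option maxRecDepth 100000 in
theorem otP24 : ∀ j : Fin 12, otFexp 1 6 otR24 otWa24 otWb24 (otDv j) = otPr24 j := by
  decide +kernel
theorem otQ24 (n : ℕ) (j : Fin 12) (hj : Nat.gcd n 84 = otDv j) : otF otY24 n = otPr24 j := by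
  rw [otF_gcd otY24 84 otE24 n, hj, otSD_otF, otP24 j]

/-- ring of group 25. -/
abbrev otR25 : Type := ZMod 7 × ZMod 7 × ZMod 7
/-- first action unit of group 25. -/
abbrev otWa25 : otR25 := (1, 1, 1)
/-- second action unit of group 25. -/
abbrev otWb25 : otR25 := (6, 3, 3)
instance otFa25 : Fact (otWa25 ^ 1 = 1) := ⟨by decide +kernel⟩
instance otFb25 : Fact (otWb25 ^ 6 = 1) := ⟨by decide +kernel⟩
/-- group 25. -/
abbrev otY25 : Type := OtSD 1 6 otR25 otWa25 otWb25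
set_option maxRecDepth 100000 in
theorem otE25 : ∀ x : otY25, x ^ 84 = 1 :=
  otSD_exp 1 6 otR25 otWa25 otWb25 84 (by decide +kernel)
/-- profile of group 25. -/
def otPr25 : Fin 12 → ℕ := ![1, 344, 99, 344, 1128, 343, 1128, 686, 1029, 686, 2058, 2058]
set_option maxRecDepth 100000 in
theorem otP25 : ∀ j : Fin 12, otFexp 1 6 otR25 otWa25 otWb25 (otDv j) = otPr25 j := by
  decide +kernel
theorem otQ25 (n : ℕ) (j : Fin 12) (hj : Nat.gcd n 84 = otDv j) : otF otY25 n = otPr25 j := by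
  rw [otF_gcd otY25 84 otE25 n, hj, otSD_otF, otP25 j]

/-- ring of group 26. -/
abbrev otR26 : Type := ZMod 3 × ZMod 3 × ZMod 7
/-- first action unit of group 26. -/
abbrev otWa26 : otR26 := (1, 2, 6)
/-- second action unit of group 26. -/
abbrev otWb26 : otR26 := (2, 1, 6)
instance otFa26 : Fact (otWa26 ^ 2 = 1) := ⟨by decide +kernel⟩
instance otFb26 : Fact (otWb26 ^ 2 = 1) := ⟨by decide +kernel⟩
/-- group 26. -/
abbrev otY26 : Type := OtSD 2 2 otR26 otWa26 otWb26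
set_option maxRecDepth 100000 in
theorem otE26 : ∀ x : otY26, x ^ 84 = 1 :=
  otSD_exp 2 2 otR26 otWa26 otWb26 84 (by decide +kernel)
/-- profile of group 26. -/
def otPr26 : Fin 12 → ℕ := ![1, 52, 9, 52, 144, 7, 144, 112, 63, 112, 252, 252]
set_option maxRecDepth 100000 in
theorem otP26 : ∀ j : Fin 12, otFexp 2 2 otR26 otWa26 otWb26 (otDv j) = otPr26 j := by
  decide +kernel
theorem otQ26 (n : ℕ) (j : Fin 12) (hj : Nat.gcd n 84 = otDv j) : otF otY26 n = otPr26 j := by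
  rw [otF_gcd otY26 84 otE26 n, hj, otSD_otF, otP26 j]

/-- ring of group 27. -/
abbrev otR27 : Type := ZMod 3 × ZMod 3 × ZMod 7
/-- first action unit of group 27. -/
abbrev otWa27 : otR27 := (2, 2, 1)
/-- second action unit of group 27. -/
abbrev otWb27 : otR27 := (1, 2, 6)
instance otFa27 : Fact (otWa27 ^ 2 = 1) := ⟨by decide +kernel⟩
instance otFb27 : Fact (otWb27 ^ 4 = 1) := ⟨by decide +kernel⟩
/-- group 27. -/
abbrev otY27 : Type := OtSD 2 4 otR27 otWa27 otWb27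
set_option maxRecDepth 100000 in
theorem otE27 : ∀ x : otY27, x ^ 84 = 1 :=
  otSD_exp 2 4 otR27 otWa27 otWb27 84 (by decide +kernel)
/-- profile of group 27. -/
def otPr27 : Fin 12 → ℕ := ![1, 20, 9, 104, 36, 7, 288, 140, 63, 224, 252, 504]
set_option maxRecDepth 100000 in
theorem otP27 : ∀ j : Fin 12, otFexp 2 4 otR27 otWa27 otWb27 (otDv j) = otPr27 j := by
  decide +kernel
theorem otQ27 (n : ℕ) (j : Fin 12) (hj : Nat.gcd n 84 = otDv j) : otF otY27 n = otPr27 j := by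
  rw [otF_gcd otY27 84 otE27 n, hj, otSD_otF, otP27 j]

/-- ring of group 28. -/
abbrev otR28 : Type := ZMod 7 × ZMod 7 × ZMod 4
/-- first action unit of group 28. -/
abbrev otWa28 : otR28 := (1, 6, 3)
/-- second action unit of group 28. -/
abbrev otWb28 : otR28 := (6, 1, 3)
instance otFa28 : Fact (otWa28 ^ 2 = 1) := ⟨by decide +kernel⟩
instance otFb28 : Fact (otWb28 ^ 2 = 1) := ⟨by decide +kernel⟩
/-- group 28. -/
abbrev otY28 : Type := OtSD 2 2 otR28 otWa28 otWb28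
set_option maxRecDepth 100000 in
theorem otE28 : ∀ x : otY28, x ^ 84 = 1 :=
  otSD_exp 2 2 otR28 otWa28 otWb28 84 (by decide +kernel)
/-- profile of group 28. -/
def otPr28 : Fin 12 → ℕ := ![1, 156, 1, 256, 156, 49, 256, 588, 49, 784, 588, 784]
set_option maxRecDepth 100000 in
theorem otP28 : ∀ j : Fin 12, otFexp 2 2 otR28 otWa28 otWb28 (otDv j) = otPr28 j := by
  decide +kernel
theorem otQ28 (n : ℕ) (j : Fin 12) (hj : Nat.gcd n 84 = otDv j) : otF otY28 n = otPr28 j := by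
  rw [otF_gcd otY28 84 otE28 n, hj, otSD_otF, otP28 j]

/-- ring of group 29. -/
abbrev otR29 : Type := ZMod 7 × ZMod 7 × ZMod 7
/-- first action unit of group 29. -/
abbrev otWa29 : otR29 := (1, 6, 6)
/-- second action unit of group 29. -/
abbrev otWb29 : otR29 := (6, 1, 3)
instance otFa29 : Fact (otWa29 ^ 2 = 1) := ⟨by decide +kernel⟩
instance otFb29 : Fact (otWb29 ^ 6 = 1) := ⟨by decide +kernel⟩
/-- group 29. -/
abbrev otY29 : Type := OtSD 2 6 otR29 otWa29 otWb29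
set_option maxRecDepth 100000 in
theorem otE29 : ∀ x : otY29, x ^ 84 = 1 :=
  otSD_exp 2 6 otR29 otWa29 otWb29 84 (by decide +kernel)
/-- profile of group 29. -/
def otPr29 : Fin 12 → ℕ := ![1, 148, 15, 148, 1044, 343, 1044, 1372, 1029, 1372, 4116, 4116]
set_option maxRecDepth 100000 in
theorem otP29 : ∀ j : Fin 12, otFexp 2 6 otR29 otWa29 otWb29 (otDv j) = otPr29 j := by
  decide +kernel
theorem otQ29 (n : ℕ) (j : Fin 12) (hj : Nat.gcd n 84 = otDv j) : otF otY29 n = otPr29 j := by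
  rw [otF_gcd otY29 84 otE29 n, hj, otSD_otF, otP29 j]

/-- ring of group 30. -/
abbrev otR30 : Type := ZMod 7 × ZMod 7 × ZMod 7
/-- first action unit of group 30. -/
abbrev otWa30 : otR30 := (1, 3, 3)
/-- second action unit of group 30. -/
abbrev otWb30 : otR30 := (6, 1, 3)
instance otFa30 : Fact (otWa30 ^ 6 = 1) := ⟨by decide +kernel⟩
instance otFb30 : Fact (otWb30 ^ 6 = 1) := ⟨by decide +kernel⟩
/-- group 30. -/
abbrev otY30 : Type := OtSD 6 6 otR30 otWa30 otWb30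
set_option maxRecDepth 100000 in
theorem otE30 : ∀ x : otY30, x ^ 84 = 1 :=
  otSD_exp 6 6 otR30 otWa30 otWb30 84 (by decide +kernel)
/-- profile of group 30. -/
def otPr30 : Fin 12 → ℕ := ![1, 148, 225, 148, 5076, 343, 5076, 1372, 3087, 1372, 12348, 12348]
set_option maxRecDepth 100000 in
theorem otP30 : ∀ j : Fin 12, otFexp 6 6 otR30 otWa30 otWb30 (otDv j) = otPr30 j := by
  decide +kernel
theorem otQ30 (n : ℕ) (j : Fin 12) (hj : Nat.gcd n 84 = otDv j) : otF otY30 n = otPr30 j := by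
  rw [otF_gcd otY30 84 otE30 n, hj, otSD_otF, otP30 j]

/-- ring of group 31. -/
abbrev otR31 : Type := OtF4
/-- first action unit of group 31. -/
abbrev otWa31 : otR31 := OtF4.mk 1
/-- second action unit of group 31. -/
abbrev otWb31 : otR31 := OtF4.mk 2
instance otFa31 : Fact (otWa31 ^ 1 = 1) := ⟨by decide +kernel⟩
instance otFb31 : Fact (otWb31 ^ 3 = 1) := ⟨by decide +kernel⟩
/-- group 31. -/
abbrev otY31 : Type := OtSD 1 3 otR31 otWa31 otWb31
set_option maxRecDepth 100000 in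
theorem otE31 : ∀ x : otY31, x ^ 84 = 1 :=
  otSD_exp 1 3 otR31 otWa31 otWb31 84 (by decide +kernel)
/-- profile of group 31. -/
def otPr31 : Fin 12 → ℕ := ![1, 4, 9, 4, 12, 1, 12, 4, 9, 4, 12, 12]
set_option maxRecDepth 100000 in
theorem otP31 : ∀ j : Fin 12, otFexp 1 3 otR31 otWa31 otWb31 (otDv j) = otPr31 j := by
  decide +kernel
theorem otQ31 (n : ℕ) (j : Fin 12) (hj : Nat.gcd n 84 = otDv j) : otF otY31 n = otPr31 j := by
  rw [otF_gcd otY31 84 otE31 n, hj, otSD_otF, otP31 j]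

/-- ring of group 32. -/
abbrev otR32 : Type := OtF4 × OtF4
/-- first action unit of group 32. -/
abbrev otWa32 : otR32 := (OtF4.mk 1, OtF4.mk 1)
/-- second action unit of group 32. -/
abbrev otWb32 : otR32 := (OtF4.mk 2, OtF4.mk 2)
instance otFa32 : Fact (otWa32 ^ 1 = 1) := ⟨by decide +kernel⟩
instance otFb32 : Fact (otWb32 ^ 3 = 1) := ⟨by decide +kernel⟩
/-- group 32. -/
abbrev otY32 : Type := OtSD 1 3 otR32 otWa32 otWb32
set_option maxRecDepth 100000 in
theorem otE32 : ∀ x : otY32, x ^ 84 = 1 :=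
  otSD_exp 1 3 otR32 otWa32 otWb32 84 (by decide +kernel)
/-- profile of group 32. -/
def otPr32 : Fin 12 → ℕ := ![1, 16, 33, 16, 48, 1, 48, 16, 33, 16, 48, 48]
set_option maxRecDepth 100000 in
theorem otP32 : ∀ j : Fin 12, otFexp 1 3 otR32 otWa32 otWb32 (otDv j) = otPr32 j := by
  decide +kernel
theorem otQ32 (n : ℕ) (j : Fin 12) (hj : Nat.gcd n 84 = otDv j) : otF otY32 n = otPr32 j := by
  rw [otF_gcd otY32 84 otE32 n, hj, otSD_otF, otP32 j]

/-- ring of group 33. -/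
abbrev otR33 : Type := ZMod 7 × OtF4
/-- first action unit of group 33. -/
abbrev otWa33 : otR33 := (1, OtF4.mk 1)
/-- second action unit of group 33. -/
abbrev otWb33 : otR33 := (2, OtF4.mk 2)
instance otFa33 : Fact (otWa33 ^ 1 = 1) := ⟨by decide +kernel⟩
instance otFb33 : Fact (otWb33 ^ 3 = 1) := ⟨by decide +kernel⟩
/-- group 33. -/
abbrev otY33 : Type := OtSD 1 3 otR33 otWa33 otWb33
set_option maxRecDepth 100000 in
theorem otE33 : ∀ x : otY33, x ^ 84 = 1 :=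
  otSD_exp 1 3 otR33 otWa33 otWb33 84 (by decide +kernel)
/-- profile of group 33. -/
def otPr33 : Fin 12 → ℕ := ![1, 4, 57, 4, 60, 7, 60, 28, 63, 28, 84, 84]
set_option maxRecDepth 100000 in
theorem otP33 : ∀ j : Fin 12, otFexp 1 3 otR33 otWa33 otWb33 (otDv j) = otPr33 j := by
  decide +kernel
theorem otQ33 (n : ℕ) (j : Fin 12) (hj : Nat.gcd n 84 = otDv j) : otF otY33 n = otPr33 j := by
  rw [otF_gcd otY33 84 otE33 n, hj, otSD_otF, otP33 j]

/-- ring of group 34. -/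
abbrev otR34 : Type := OtF8
/-- first action unit of group 34. -/
abbrev otWa34 : otR34 := OtF8.mk 1
/-- second action unit of group 34. -/
abbrev otWb34 : otR34 := OtF8.mk 2
instance otFa34 : Fact (otWa34 ^ 1 = 1) := ⟨by decide +kernel⟩
instance otFb34 : Fact (otWb34 ^ 7 = 1) := ⟨by decide +kernel⟩
/-- group 34. -/
abbrev otY34 : Type := OtSD 1 7 otR34 otWa34 otWb34
set_option maxRecDepth 100000 in
theorem otE34 : ∀ x : otY34, x ^ 84 = 1 :=
  otSD_exp 1 7 otR34 otWa34 otWb34 84 (by decide +kernel)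
/-- profile of group 34. -/
def otPr34 : Fin 12 → ℕ := ![1, 8, 1, 8, 8, 49, 8, 56, 49, 56, 56, 56]
set_option maxRecDepth 100000 in
theorem otP34 : ∀ j : Fin 12, otFexp 1 7 otR34 otWa34 otWb34 (otDv j) = otPr34 j := by
  decide +kernel
theorem otQ34 (n : ℕ) (j : Fin 12) (hj : Nat.gcd n 84 = otDv j) : otF otY34 n = otPr34 j := by
  rw [otF_gcd otY34 84 otE34 n, hj, otSD_otF, otP34 j]

/-- ring of group 35. -/
abbrev otR35 : Type := OtF8 × OtF8
/-- first action unit of group 35. -/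
abbrev otWa35 : otR35 := (OtF8.mk 1, OtF8.mk 1)
/-- second action unit of group 35. -/
abbrev otWb35 : otR35 := (OtF8.mk 2, OtF8.mk 2)
instance otFa35 : Fact (otWa35 ^ 1 = 1) := ⟨by decide +kernel⟩
instance otFb35 : Fact (otWb35 ^ 7 = 1) := ⟨by decide +kernel⟩
/-- group 35. -/
abbrev otY35 : Type := OtSD 1 7 otR35 otWa35 otWb35
set_option maxRecDepth 100000 in
theorem otE35 : ∀ x : otY35, x ^ 84 = 1 :=
  otSD_exp 1 7 otR35 otWa35 otWb35 84 (by decide +kernel)
/-- profile of group 35. -/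
def otPr35 : Fin 12 → ℕ := ![1, 64, 1, 64, 64, 385, 64, 448, 385, 448, 448, 448]
set_option maxRecDepth 100000 in
theorem otP35 : ∀ j : Fin 12, otFexp 1 7 otR35 otWa35 otWb35 (otDv j) = otPr35 j := by
  decide +kernel
theorem otQ35 (n : ℕ) (j : Fin 12) (hj : Nat.gcd n 84 = otDv j) : otF otY35 n = otPr35 j := by
  rw [otF_gcd otY35 84 otE35 n, hj, otSD_otF, otP35 j]

/-- ring of group 36. -/
abbrev otR36 : Type := OtF4 × OtQ2 OtF8
/-- first action unit of group 36. -/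
abbrev otWa36 : otR36 := (OtF4.mk 1, 1)
/-- second action unit of group 36. -/
abbrev otWb36 : otR36 := (OtF4.mk 2, OtQ2.mk 0 (OtF8.mk 2))
instance otFa36 : Fact (otWa36 ^ 1 = 1) := ⟨by decide +kernel⟩
instance otFb36 : Fact (otWb36 ^ 21 = 1) := ⟨by decide +kernel⟩
/-- group 36. -/
abbrev otY36 : Type := OtSD 1 21 otR36 otWa36 otWb36
set_option maxRecDepth 100000 in
theorem otE36 : ∀ x : otY36, x ^ 84 = 1 :=
  otSD_exp 1 21 otR36 otWa36 otWb36 84 (by decide +kernel)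
/-- profile of group 36. -/
def otPr36 : Fin 12 → ℕ := ![1, 256, 513, 256, 768, 385, 768, 1792, 3969, 1792, 5376, 5376]
set_option maxRecDepth 100000 in
theorem otP36 : ∀ j : Fin 12, otFexp 1 21 otR36 otWa36 otWb36 (otDv j) = otPr36 j := by
  decide +kernel
theorem otQ36 (n : ℕ) (j : Fin 12) (hj : Nat.gcd n 84 = otDv j) : otF otY36 n = otPr36 j := by
  rw [otF_gcd otY36 84 otE36 n, hj, otSD_otF, otP36 j]

/-- the solvable group. -/
abbrev otG : Type := (Fin 7 → otY2) × (Fin 6 → otY3) × (Fin 1 → otY4) × (Fin 1 → otY5) × (Fin 9 → otY8) × (Fin 3 → otY10) × (Fin 27 → otY13) × (Fin 3 → otY14) × (Fin 5 → otY18) × (Fin 3 → otY19) × (Fin 3 → otY21) × (Fin 1 → otY23) × (Fin 3 → otY25) × (Fin 3 → otY27) × (Fin 3 → otY28) × (Fin 3 → otY29) × (Fin 3 → otY31) × (Fin 6 → otY33) × (Fin 3 → otY34) × (Fin 3 → otY35)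

/-- the non-solvable group. -/
abbrev otH : Type := (Fin 3 → OtL) × (Fin 32 → otY0) × (Fin 6 → otY1) × (Fin 6 → otY6) × (Fin 6 → otY7) × (Fin 13 → otY9) × (Fin 5 → otY11) × (Fin 3 → otY12) × (Fin 3 → otY15) × (Fin 4 → otY16) × (Fin 3 → otY17) × (Fin 9 → otY20) × (Fin 9 → otY22) × (Fin 3 → otY24) × (Fin 3 → otY26) × (Fin 3 → otY30) × (Fin 3 → otY32) × (Fin 3 → otY36)

set_option synthInstance.maxSize 100000
set_option synthInstance.maxHeartbeats 2000000
set_option maxHeartbeats 2000000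

set_option maxRecDepth 100000 in
theorem otNum : ∀ j : Fin 12, otPr2 j ^ 7 * (otPr3 j ^ 6 * (otPr4 j ^ 1 * (otPr5 j ^ 1 * (otPr8 j ^ 9 * (otPr10 j ^ 3 * (otPr13 j ^ 27 * (otPr14 j ^ 3 * (otPr18 j ^ 5 * (otPr19 j ^ 3 * (otPr21 j ^ 3 * (otPr23 j ^ 1 * (otPr25 j ^ 3 * (otPr27 j ^ 3 * (otPr28 j ^ 3 * (otPr29 j ^ 3 * (otPr31 j ^ 3 * (otPr33 j ^ 6 * (otPr34 j ^ 3 * (otPr35 j ^ 3))))))))))))))))))) =
    otPrL j ^ 3 * (otPr0 j ^ 32 * (otPr1 j ^ 6 * (otPr6 j ^ 6 * (otPr7 j ^ 6 * (otPr9 j ^ 13 * (otPr11 j ^ 5 * (otPr12 j ^ 3 * (otPr15 j ^ 3 * (otPr16 j ^ 4 * (otPr17 j ^ 3 * (otPr20 j ^ 9 * (otPr22 j ^ 9 * (otPr24 j ^ 3 * (otPr26 j ^ 3 * (otPr30 j ^ 3 * (otPr32 j ^ 3 * (otPr36 j ^ 3))))))))))))))))) := by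
  decide +kernel

theorem otGH (n : ℕ) : otF otG n = otF otH n := by
  obtain ⟨j, hj⟩ := ot_gcd_dv n
  simp only [otF_prod, otF_pi, Nat.card_fin, otL_Q n j hj, otQ0 n j hj, otQ1 n j hj, otQ2 n j hj, otQ3 n j hj, otQ4 n j hj, otQ5 n j hj, otQ6 n j hj, otQ7 n j hj, otQ8 n j hj, otQ9 n j hj, otQ10 n j hj, otQ11 n j hj, otQ12 n j hj, otQ13 n j hj, otQ14 n j hj, otQ15 n j hj, otQ16 n j hj, otQ17 n j hj, otQ18 n j hj, otQ19 n j hj, otQ20 n j hj, otQ21 n j hj, otQ22 n j hj, otQ23 n j hj, otQ24 n j hj, otQ25 n j hj, otQ26 n j hj, otQ27 n j hj, otQ28 n j hj, otQ29 n j hj, otQ30 n j hj, otQ31 n j hj, otQ32 n j hj, otQ33 n j hj, otQ34 n j hj, otQ35 n j hj, otQ36 n j hj]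
  exact otNum j

theorem otH_not_solvable : ¬ Group.IsSolvable otH := by
  intro hs
  apply otL_not_solvable
  let f : otH →* OtL := (Pi.evalMonoidHom (fun _ : Fin 3 => OtL) 0).comp (MonoidHom.fst _ _)
  have hf : Function.Surjective f := fun y => ⟨(fun _ => y, 1), rfl⟩
  exact Group.isSolvable_of_surjective hf

theorem ot_main : ∃ (G : Type) (_ : Group G) (_ : Finite G) (H : Type) (_ : Group H) (_ : Finite H),
    Group.IsSolvable G ∧ ¬ Group.IsSolvable H ∧
      ∀ n : ℕ, Nat.card {g : G // orderOf g = n} = Nat.card {h : H // orderOf h = n} :=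
  ⟨otG, inferInstance, inferInstance, otH, inferInstance, inferInstance, inferInstance,
    otH_not_solvable, ot_of_otF otG otH otGH⟩

end Cfsg.Agent.Helper2
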