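import Mathlib
import Cfsg.Agent.Helper24.Ito
import Cfsg.Agent.Helper13.PSolv
import Cfsg.Agent.Helper13.PSolv2
import Cfsg.Agent.Helper22.ConjClass
import Cfsg.Agent.Helper2.CliffDeg
import Cfsg.Agent.Helper2.BlockStable

/-!
# Ito–Michler for `p`-solvable groups (helper2)

* `isConj_of_irr_eq`: irreducible characters separate conjugacy classes.
* `le_sup_of_relIndex_pow`: `N ≤ H`, `[H:N]` a `p`-power, `S ≤ H` of `p'`-index: `H ≤ N ⊔ S`.
* `centralizes_of_class_fixing`: a `p`-element fixing all classes of a normal `p'`-subgroup `N`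
  centralizes `N`.
* `exists_normal_sylow_of_pprime_degrees_psolv`: a `p`-solvable group all of whose irreducible
  character degrees are prime to `p` has a normal Sylow `p`-subgroup.
-/

set_option autoImplicit false

namespace Cfsg.Agent.Helper2

open Cfsg
open scoped ComplexConjugate

universe u

section Sep

variable {G : Type u} [Group G]

/-- Irreducible characters separate conjugacy classes. -/
theorem isConj_of_irr_eq [Finite G] (a b : G)
    (h : ∀ χ : IrrCharacter G, (χ : G → ℂ) a = (χ : G → ℂ) b) : IsConj a b := by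
  classical
  letI : Fintype G := Fintype.ofFinite G
  by_contra hc
  have h1 := Cfsg.Agent.Helper1.col_orth a b
  rw [if_neg hc] at h1
  have h3 := Cfsg.Agent.Helper1.col_orth b b
  rw [if_pos (IsConj.refl b)] at h3
  have h2 : ∑ χ : IrrCharacter G, (χ : G → ℂ) b * conj ((χ : G → ℂ) b) = 0 := by
    rw [← h1]
    exact Finset.sum_congr rfl (fun χ _ => by rw [h χ])
  rw [h2] at h3
  have : (Nat.card (Subgroup.centralizer ({b} : Set G)) : ℂ) ≠ 0 :=
    Nat.cast_ne_zero.mpr Nat.card_pos.ne'
  exact this h3.symm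

theorem le_sup_of_relIndex_pow [Finite G] (p : ℕ) [hp : Fact p.Prime] (N H S : Subgroup G)
    (k : ℕ) (hk : N.relIndex H = p ^ k) (hSH : S ≤ H) (hS : ¬ p ∣ S.index) :
    H ≤ N ⊔ S := by
  rw [← Subgroup.relIndex_eq_one]
  have h1 : (N ⊔ S).relIndex H ∣ p ^ k := hk ▸ Subgroup.relIndex_dvd_of_le_left H le_sup_left
  have h2 : (N ⊔ S).relIndex H ∣ S.index :=
    (Subgroup.relIndex_dvd_of_le_left H le_sup_right).trans (Subgroup.relIndex_dvd_index_of_le hSH)
  obtain ⟨j, -, hj⟩ := (Nat.dvd_prime_pow hp.out).mp h1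
  rcases Nat.eq_zero_or_pos j with h0 | h0
  · rw [hj, h0, pow_zero]
  · exact absurd ((hj ▸ dvd_pow_self p h0.ne').trans h2) hS

/-- A `p`-element fixing every conjugacy class of the normal `p'`-subgroup `N` centralizes `N`. -/
theorem centralizes_of_class_fixing [Finite G] (p : ℕ) [hp : Fact p.Prime] (N : Subgroup G)
    [hN : N.Normal] (hNp : (Nat.card N).Coprime p) (x : G) (m : ℕ) (hx : x ^ p ^ m = 1)
    (hfix : ∀ y ∈ Subgroup.zpowers x, ∀ n : N,
      IsConj (⟨y * n * y⁻¹, hN.conj_mem n n.2 y⟩ : N) n) :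
    ∀ n ∈ N, x * n = n * x := by
  classical
  have hZ : IsPGroup p (Subgroup.zpowers x) := by
    rintro ⟨y, hy⟩
    obtain ⟨i, rfl⟩ := Subgroup.mem_zpowers_iff.mp hy
    refine ⟨m, Subtype.ext ?_⟩
    show (x ^ i) ^ p ^ m = 1
    rw [← zpow_natCast, ← zpow_mul, mul_comm, zpow_mul, zpow_natCast, hx, one_zpow]
  have hC : (Subgroup.centralizer ({x} : Set G)).subgroupOf N = ⊤ := by
    apply Cfsg.Agent.Helper22.eq_top_of_forall_conj_mem
    intro g
    let α := {n : N // IsConj n g}
    letI : MulAction (Subgroup.zpowers x) α :=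
      { smul := fun y a => ⟨⟨(y : G) * (a.1 : G) * (y : G)⁻¹, hN.conj_mem a.1 a.1.2 y⟩,
          (hfix y y.2 a.1).trans a.2⟩
        one_smul := fun a => by
          apply Subtype.ext
          apply Subtype.ext
          show ((1 : Subgroup.zpowers x) : G) * (a.1 : G) * ((1 : Subgroup.zpowers x) : G)⁻¹ = a.1
          simp
        mul_smul := fun y₁ y₂ a => by
          apply Subtype.ext
          apply Subtype.ext
          show ((y₁ * y₂ : Subgroup.zpowers x) : G) * (a.1 : G)
              * ((y₁ * y₂ : Subgroup.zpowers x) : G)⁻¹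
            = (y₁ : G) * ((y₂ : G) * (a.1 : G) * (y₂ : G)⁻¹) * (y₁ : G)⁻¹
          simp only [Subgroup.coe_mul, mul_inv_rev, mul_assoc] }
    have hcard : ¬ p ∣ Nat.card α := by
      have e : Nat.card α = (Subgroup.centralizer ({g} : Set N)).index := by
        rw [Cfsg.Agent.Helper22.index_centralizer_eq_ncard_carrier, ← Nat.card_coe_set_eq]
        apply Nat.card_congr
        apply Equiv.subtypeEquivRight
        intro n
        rw [ConjClasses.mem_carrier_iff_mk_eq, ConjClasses.mk_eq_mk_iff_isConj]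
      rw [e]
      intro hd
      have h1 := hd.trans (Subgroup.index_dvd_card (Subgroup.centralizer ({g} : Set N)))
      exact (Nat.Prime.coprime_iff_not_dvd hp.out).mp hNp.symm h1
    obtain ⟨a, ha⟩ := hZ.nonempty_fixed_point_of_prime_not_dvd_card α hcard
    have hxa : x * (a.1 : G) * x⁻¹ = (a.1 : G) := by
      have h1 := ha ⟨x, Subgroup.mem_zpowers x⟩
      have h2 := congrArg (fun b : α => ((b.1 : N) : G)) h1
      exact h2
    obtain ⟨a₀, ha₀⟩ : ∃ a₀ : N, a₀ = a.1 := ⟨_, rfl⟩
    have ha₀c : IsConj a₀ g := ha₀ ▸ a.2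
    rw [← ha₀] at hxa
    obtain ⟨c, hc⟩ := isConj_iff.mp ha₀c
    refine ⟨c, ?_⟩
    have e : c⁻¹ * g * c = a₀ := by rw [← hc]; group
    rw [e, Subgroup.mem_subgroupOf, Subgroup.mem_centralizer_singleton_iff]
    have h5 : x * (a₀ : G) = (a₀ : G) * x := by
      have := congrArg (fun z => z * x) hxa
      simpa [mul_assoc] using this
    exact h5.symm
  intro n hn
  have h1 : (⟨n, hn⟩ : N) ∈ (Subgroup.centralizer ({x} : Set G)).subgroupOf N := by
    rw [hC]; trivial
  rw [Subgroup.mem_subgroupOf, Subgroup.mem_centralizer_singleton_iff] at h1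
  exact h1.symm

end Sep

section Main

/-- Ito–Michler, `p`-solvable case: if no irreducible character degree is divisible by `p`, the
finite `p`-solvable group `G` has a normal Sylow `p`-subgroup. -/
theorem exists_normal_sylow_of_pprime_degrees_psolv (p : ℕ) [hp : Fact p.Prime] :
    ∀ (n : ℕ) (G : Type u) [Group G] [Finite G], Nat.card G = n → IsPSolvable p G →
    (∀ χ : IrrCharacter G, ¬ p ∣ charDegree (χ : G → ℂ)) →
    ∃ P : Subgroup G, P.Normal ∧ IsPGroup p P ∧ ¬ p ∣ P.index := by
  intro n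
  induction n using Nat.strong_induction_on with
  | _ n ih =>
  intro G _ _ hcard hsolv hdeg
  classical
  by_cases hnt : Nontrivial G
  swap
  · rw [not_nontrivial_iff_subsingleton] at hnt
    refine ⟨⊤, inferInstance, fun g => ⟨0, Subsingleton.elim _ _⟩, ?_⟩
    rw [Subgroup.index_top]
    exact hp.out.one_lt.ne' ∘ Nat.dvd_one.mp
  obtain ⟨N, hNn, hN1, hNcase⟩ := Cfsg.Agent.Helper13.exists_normal_of_isPSolvable hsolv
  haveI := hNn
  have hlt : Nat.card (G ⧸ N) < n := hcard ▸ Cfsg.Agent.Helper13.card_quotient_lt N hN1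
  obtain ⟨Pb, hPbn, hPbp, hPbi⟩ := ih _ hlt (G ⧸ N) rfl
    (Cfsg.Agent.Helper13.isPSolvable_quotient hsolv N)
    (Cfsg.Agent.Helper24.pprime_degree_quot p N hdeg)
  haveI := hPbn
  set H : Subgroup G := Pb.comap (QuotientGroup.mk' N) with hHdef
  haveI hHn : H.Normal := Subgroup.Normal.comap hPbn _
  have hHidx : ¬ p ∣ H.index := by
    rw [hHdef, Subgroup.index_comap_of_surjective Pb (QuotientGroup.mk'_surjective N)]
    exact hPbi
  have hNH : N ≤ H := by
    intro g hg
    rw [hHdef, Subgroup.mem_comap]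
    have : QuotientGroup.mk' N g = 1 := (QuotientGroup.eq_one_iff g).mpr hg
    rw [this]
    exact Pb.one_mem
  rcases hNcase with hNp | hNc
  · -- `N` a `p`-group: `H` is a normal Sylow `p`-subgroup
    refine ⟨H, hHn, ?_, hHidx⟩
    exact hPbp.comap_of_ker_isPGroup (QuotientGroup.mk' N)
      (by rw [QuotientGroup.ker_mk']; exact hNp)
  · -- `N` a `p'`-group
    letI : Fintype G := Fintype.ofFinite G
    letI : Fintype N := Fintype.ofFinite N
    obtain ⟨k, hk⟩ := hPbp.exists_card_eq
    have hrel : N.relIndex H = p ^ k := by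
      have h1 : N = (⊥ : Subgroup (G ⧸ N)).comap (QuotientGroup.mk' N) := by
        rw [MonoidHom.comap_bot, QuotientGroup.ker_mk']
      rw [h1, Subgroup.relIndex_comap, Subgroup.relIndex_bot_left, hHdef,
        Subgroup.map_comap_eq_self_of_surjective (QuotientGroup.mk'_surjective N), hk]
    -- every irreducible character of `N` is `H`-invariant
    have hinv : ∀ (θ : IrrCharacter N), ∀ h ∈ H, conjChar N (θ : N → ℂ) h = (θ : N → ℂ) := by
      intro θ h hh
      obtain ⟨χ, hχ⟩ := exists_irr_over N θ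
      obtain ⟨a, ha, hdegχ⟩ := clifford_degree N χ θ hχ
      set T := @MulAction.stabilizer G (IrrCharacter N) _ (conjActionFull N) θ with hTdef
      have hTidx : ¬ p ∣ T.index := by
        intro hd
        apply hdeg χ
        rw [hdegχ]
        exact (hd.mul_right _).mul_left _
      have hNT : N ≤ T := le_stabilizer_conjActionFull N θ
      obtain ⟨S⟩ : Nonempty (Sylow p T) := inferInstance
      set S' : Subgroup G := (S : Subgroup T).map T.subtype with hS'def
      have hS'idx : ¬ p ∣ S'.index := by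
        rw [hS'def, Subgroup.index_map_subtype]
        exact Nat.Prime.not_dvd_mul hp.out S.not_dvd_index hTidx
      have hS'p : IsPGroup p S' := S.isPGroup'.map _
      have hS'H : S' ≤ H := Cfsg.Agent.Helper24.le_of_normal_pprime_index p H hHidx S' hS'p
      have hS'T : S' ≤ T := by
        rw [hS'def]
        exact Subgroup.map_subtype_le _
      have hHT : H ≤ T := (le_sup_of_relIndex_pow p N H S' k hrel hS'H hS'idx).trans
        (sup_le hNT hS'T)
      exact (mem_stabilizer_conjActionFull N θ h).mp (hHT hh)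
    have hconj : ∀ h ∈ H, ∀ n : N, IsConj (⟨h * n * h⁻¹, hNn.conj_mem n n.2 h⟩ : N) n := by
      intro h hh n
      apply isConj_of_irr_eq
      intro θ
      have := congrFun (hinv θ h hh) n
      rw [conjChar_apply] at this
      exact this
    have hcent : ∀ x ∈ H, ∀ m : ℕ, x ^ p ^ m = 1 → ∀ n ∈ N, x * n = n * x := by
      intro x hxH m hxm
      apply centralizes_of_class_fixing p N hNc x m hxm
      intro y hy n
      exact hconj y ((Subgroup.zpowers_le.mpr hxH) hy) n
    obtain ⟨P⟩ : Nonempty (Sylow p G) := inferInstance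
    have hPH : (P : Subgroup G) ≤ H :=
      Cfsg.Agent.Helper24.le_of_normal_pprime_index p H hHidx P P.isPGroup'
    have hHNP : H ≤ N ⊔ (P : Subgroup G) :=
      le_sup_of_relIndex_pow p N H P k hrel hPH P.not_dvd_index
    have hPpow : ∀ x ∈ (P : Subgroup G), ∃ m : ℕ, x ^ p ^ m = 1 := by
      intro x hx
      obtain ⟨m, hm⟩ := P.isPGroup' ⟨x, hx⟩
      exact ⟨m, by simpa using congrArg Subtype.val hm⟩
    refine ⟨P, ⟨?_⟩, P.isPGroup', P.not_dvd_index⟩
    intro x hx g
    have hyH : g * x * g⁻¹ ∈ H := hHn.conj_mem x (hPH hx) g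
    have hy2 : g * x * g⁻¹ ∈ ((N ⊔ (P : Subgroup G) : Subgroup G) : Set G) := hHNP hyH
    rw [Subgroup.normal_mul, Set.mem_mul] at hy2
    obtain ⟨c, hcN, x', hx'P, hcx⟩ := hy2
    obtain ⟨i, hi⟩ := hPpow x hx
    obtain ⟨j, hj⟩ := hPpow x' hx'P
    have hcomm : Commute c x' := (hcent x' (hPH hx'P) j hj c hcN).symm
    have hyi : (g * x * g⁻¹) ^ p ^ (i + j) = 1 := by
      rw [conj_pow, pow_add, pow_mul, hi, one_pow, mul_one, mul_inv_cancel]
    have hx'j : x' ^ p ^ (i + j) = 1 := by
      rw [pow_add, mul_comm, pow_mul, hj, one_pow]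
    have hc1 : c ^ p ^ (i + j) = 1 := by
      rw [← hcx, hcomm.mul_pow, hx'j, mul_one] at hyi
      exact hyi
    have hc : c = 1 := by
      have h1 : orderOf c ∣ p ^ (i + j) := orderOf_dvd_of_pow_eq_one hc1
      have h2 : orderOf c ∣ Nat.card N := by
        have := orderOf_dvd_natCard (⟨c, hcN⟩ : N)
        rwa [Subgroup.orderOf_mk] at this
      have h3 : orderOf c ∣ 1 := by
        have := Nat.dvd_gcd h2 h1
        rwa [Nat.Coprime.gcd_eq_one (Nat.Coprime.pow_right _ hNc)] at this
      exact orderOf_eq_one_iff.mp (Nat.dvd_one.mp h3)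
    rw [← hcx, hc, one_mul]
    exact hx'P

end Main

end Cfsg.Agent.Helper2
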