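import Mathlib
import Cfsg.Prelude.Def_Transfer
import Cfsg.Agent.Lead.S4016D

/-!
Reduction pieces (A3), (A5) for S4016 (team effort): the hypotheses pass to subgroups, and a
proper nontrivial normal subgroup satisfying the conclusion yields a nontrivial normal
`p'`-subgroup or a nontrivial normal `p`-subgroup of the whole group.
-/

namespace Cfsg.Agent.S4016P

universe u

theorem h2_red_sub {G : Type u} [Group G] [Finite G] {p : ℕ} [Fact p.Prime]
    (P : Sylow p G) (hcyc : IsCyclic P)
    (hab : ∀ H : Subgroup G, ¬ p ∣ Nat.card H → IsMulCommutative H) (H : Subgroup G) :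
    (∀ P1 : Sylow p H, IsCyclic P1) ∧
      (∀ H1 : Subgroup H, ¬ p ∣ Nat.card H1 → IsMulCommutative H1) := by
  constructor
  · intro P1
    have hp1 : IsPGroup p ((P1 : Subgroup H).map H.subtype) := P1.isPGroup'.map H.subtype
    obtain ⟨Q, hQ⟩ := hp1.exists_le_sylow
    obtain ⟨g, rfl⟩ := MulAction.exists_smul_eq G P Q
    haveI := hcyc
    haveI : IsCyclic ↥((g • P : Sylow p G) : Subgroup G) :=
      isCyclic_of_surjective (P.equivSMul g) (P.equivSMul g).surjective
    haveI : IsCyclic ↥((P1 : Subgroup H).map H.subtype) := Subgroup.isCyclic_of_le hQ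
    exact isCyclic_of_surjective
      ((P1 : Subgroup H).equivMapOfInjective H.subtype Subtype.val_injective).symm
      ((P1 : Subgroup H).equivMapOfInjective H.subtype Subtype.val_injective).symm.surjective
  · intro H1 hH1
    have hcard : Nat.card (H1.map H.subtype) = Nat.card H1 :=
      (Nat.card_congr (H1.equivMapOfInjective H.subtype Subtype.val_injective).toEquiv).symm
    have hc := hab (H1.map H.subtype) (by rw [hcard]; exact hH1)
    refine ⟨⟨fun a b => ?_⟩⟩
    have h1 := hc.is_comm.comm ⟨((a : H) : G), Subgroup.mem_map_of_mem _ a.2⟩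
      ⟨((b : H) : G), Subgroup.mem_map_of_mem _ b.2⟩
    have h2 : ((a : H) : G) * ((b : H) : G) = ((b : H) : G) * ((a : H) : G) :=
      congrArg Subtype.val h1
    exact Subtype.ext (Subtype.ext h2)

theorem h2_red_nonsimple {G : Type u} [Group G] [Finite G] {p : ℕ} [Fact p.Prime]
    (P : Sylow p G) (hcyc : IsCyclic P)
    (hab : ∀ H : Subgroup G, ¬ p ∣ Nat.card H → IsMulCommutative H)
    (K : Subgroup G) [K.Normal] (hK1 : K ≠ ⊥) (hK2 : K ≠ ⊤)
    (ihK : ∀ P' : Sylow p K, IsCyclic P' →
      (∀ H : Subgroup K, ¬ p ∣ Nat.card H → IsMulCommutative H) →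
      Cfsg.HasNormalPComplement p K ∨ (P' : Subgroup K).Normal) :
    (∃ M : Subgroup G, M.Normal ∧ M ≠ ⊥ ∧ ¬ p ∣ Nat.card M) ∨
      (∃ U : Subgroup G, U.Normal ∧ U ≠ ⊥ ∧ IsPGroup p U) := by
  classical
  have hp : p.Prime := Fact.out
  obtain ⟨hs1, hs2⟩ := h2_red_sub P hcyc hab K
  obtain ⟨P'⟩ : Nonempty (Sylow p K) := inferInstance
  have hKn : ∀ (g : G) (x : G), x ∈ K → g * x * g⁻¹ ∈ K := fun g x hx =>
    (inferInstance : K.Normal).conj_mem x hx g
  have hinjK : Function.Injective K.subtype := Subtype.val_injective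
  rcases ihK P' (hs1 P') hs2 with hnpc | hnor
  · obtain ⟨K0, hK0n, hK0c, hK0m⟩ := lead_npc_data hnpc
    by_cases hK0 : K0 = ⊥
    · -- K is a p-group
      right
      refine ⟨K, inferInstance, hK1, ?_⟩
      intro g
      have hn0 : orderOf g ≠ 0 := (orderOf_pos g).ne'
      refine ⟨(orderOf g).factorization p, ?_⟩
      have hdvd : p ^ (orderOf g).factorization p ∣ orderOf g := Nat.ordProj_dvd _ _
      have hord : orderOf (g ^ p ^ (orderOf g).factorization p)
          = orderOf g / p ^ (orderOf g).factorization p :=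
        orderOf_pow_of_dvd (pow_pos hp.pos _).ne' hdvd
      have hcop : (orderOf (g ^ p ^ (orderOf g).factorization p)).Coprime p := by
        rw [hord]
        exact (Nat.coprime_ordCompl hp hn0).symm
      have hmem := hK0m _ hcop
      rw [hK0, Subgroup.mem_bot] at hmem
      exact hmem
    · left
      refine ⟨K0.map K.subtype, ⟨?_⟩, ?_, ?_⟩
      · intro n hn g
        obtain ⟨x, hx, rfl⟩ := hn
        have hxK : g * (x : G) * g⁻¹ ∈ K := hKn g x x.2
        refine ⟨⟨g * (x : G) * g⁻¹, hxK⟩, ?_, rfl⟩
        apply hK0m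
        have h1 : orderOf (⟨g * (x : G) * g⁻¹, hxK⟩ : K) = orderOf x := by
          rw [Subgroup.orderOf_mk]
          have h2 := orderOf_injective (MulAut.conj g).toMonoidHom (MulAut.conj g).injective
            (x : G)
          have h3 : (MulAut.conj g).toMonoidHom (x : G) = g * (x : G) * g⁻¹ := rfl
          rw [h3] at h2
          rw [h2, Subgroup.orderOf_coe]
        rw [h1]
        have h4 : orderOf x ∣ Nat.card K0 := by
          have h5 := orderOf_dvd_natCard (⟨x, hx⟩ : K0)
          rwa [Subgroup.orderOf_mk] at h5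
        exact Nat.Coprime.coprime_dvd_left h4 hK0c
      · intro h
        apply hK0
        rw [← Subgroup.map_bot K.subtype] at h
        exact Subgroup.map_injective hinjK h
      · have hcard : Nat.card (K0.map K.subtype) = Nat.card K0 :=
          (Nat.card_congr (K0.equivMapOfInjective K.subtype hinjK).toEquiv).symm
        rw [hcard]
        intro hdvd
        have := Nat.Coprime.eq_one_of_dvd hK0c.symm hdvd
        exact hp.one_lt.ne' this
  · by_cases hP' : (P' : Subgroup K) = ⊥
    · -- K is a p'-group
      left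
      refine ⟨K, inferInstance, hK1, ?_⟩
      intro hdvd
      have h1 := P'.card_eq_multiplicity
      have h2 : Nat.card (P' : Subgroup K) = 1 := by rw [hP']; exact Subgroup.card_bot
      have h3 : (Nat.card K).factorization p = 0 := by
        by_contra hne
        have h4 : p ∣ p ^ (Nat.card K).factorization p := dvd_pow_self p hne
        rw [← h1] at h4
        have h5 : p ∣ 1 := by rwa [h2] at h4
        exact hp.one_lt.ne' (Nat.dvd_one.mp h5)
      have h6 : 0 < (Nat.card K).factorization p :=
        hp.factorization_pos_of_dvd Nat.card_pos.ne' hdvd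
      omega
    · right
      refine ⟨(P' : Subgroup K).map K.subtype, ⟨?_⟩, ?_, P'.isPGroup'.map K.subtype⟩
      · intro n hn g
        obtain ⟨x, hx, rfl⟩ := hn
        have hxK : g * (x : G) * g⁻¹ ∈ K := hKn g x x.2
        refine ⟨⟨g * (x : G) * g⁻¹, hxK⟩, ?_, rfl⟩
        -- a p-element of K lies in the normal Sylow subgroup
        obtain ⟨k, hk⟩ := P'.isPGroup' ⟨x, hx⟩
        have hk' : (x : G) ^ p ^ k = 1 := by
          have := congrArg (fun z : (P' : Subgroup K) => ((z : K) : G)) hk
          simpa using this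
        have hy : (⟨g * (x : G) * g⁻¹, hxK⟩ : K) ^ p ^ k = 1 := by
          apply Subtype.ext
          rw [Subgroup.coe_pow]
          show (g * (x : G) * g⁻¹) ^ p ^ k = 1
          rw [conj_pow, hk', mul_one, mul_inv_cancel]
        have hz : IsPGroup p (Subgroup.zpowers (⟨g * (x : G) * g⁻¹, hxK⟩ : K)) := by
          have h1 : orderOf (⟨g * (x : G) * g⁻¹, hxK⟩ : K) ∣ p ^ k :=
            orderOf_dvd_of_pow_eq_one hy
          obtain ⟨j, _, hj⟩ := (Nat.dvd_prime_pow hp).mp h1
          exact IsPGroup.of_card (n := j) (by rw [Nat.card_zpowers, hj])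
        obtain ⟨S, hS⟩ := hz.exists_le_sylow
        obtain ⟨c, hc⟩ := MulAction.exists_smul_eq K P' S
        haveI := hnor
        rw [Sylow.smul_eq_of_normal] at hc
        rw [← hc] at hS
        exact hS (Subgroup.mem_zpowers _)
      · intro h
        apply hP'
        rw [← Subgroup.map_bot K.subtype] at h
        exact Subgroup.map_injective hinjK h

end Cfsg.Agent.S4016P
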